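import Mathlib
import Cfsg.Agent.H766.EssBasic
set_option linter.all false

-- part: H797/StrongTv
section
/-!
# Transvections and strongly embedded subgroups in groups acting on a vector space over `𝔽_p`
-/

set_option autoImplicit false
set_option linter.unusedSectionVars false
set_option linter.unusedSimpArgs false

namespace Cfsg.Agent.H797.StrongTv

variable {p : ℕ} [hp : Fact p.Prime] {V : Type*} [AddCommGroup V] [Module (ZMod p) V]
  {A : Type*} [Group A] [DistribMulAction A V]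

theorem smul_zmod (g : A) (k : ZMod p) (v : V) : g • (k • v) = k • (g • v) := by
  have h := ZMod.map_smul (DistribSMul.toAddMonoidHom V g) k v
  exact h

/-- `z` acts as the transvection `v ↦ v + f(v) c`. -/
def IsTv (z : A) (f : V →ₗ[ZMod p] ZMod p) (c : V) : Prop :=
  (∀ v, z • v = v + f v • c) ∧ f c = 0

theorem IsTv.apply {z : A} {f : V →ₗ[ZMod p] ZMod p} {c : V} (h : IsTv z f c) (v : V) :
    z • v = v + f v • c := h.1 v

theorem IsTv.inv {z : A} {f : V →ₗ[ZMod p] ZMod p} {c : V} (h : IsTv z f c) :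
    IsTv z⁻¹ (-f) c := by
  refine ⟨fun v => ?_, ?_⟩
  · rw [inv_smul_eq_iff, h.1]
    simp only [LinearMap.neg_apply, map_add, map_smul, h.2, neg_smul, map_neg, smul_eq_mul, mul_zero,
      neg_zero, add_zero]
    abel
  · rw [LinearMap.neg_apply, h.2, neg_zero]

theorem IsTv.pow {z : A} {f : V →ₗ[ZMod p] ZMod p} {c : V} (h : IsTv z f c) (k : ℕ) :
    IsTv (z ^ k) ((k : ZMod p) • f) c := by
  induction k with
  | zero => exact ⟨fun v => by simp, by simp⟩
  | succ k ih =>
    refine ⟨fun v => ?_, ?_⟩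
    · rw [pow_succ, mul_smul, h.1, ih.1]
      simp only [LinearMap.smul_apply, map_add, map_smul, h.2, smul_eq_mul, mul_zero, add_zero,
        Nat.cast_add, Nat.cast_one]
      module
    · rw [LinearMap.smul_apply, h.2, smul_zero]

/-- The functional `v ↦ f (a⁻¹ v)`. -/
def tw (a : A) (f : V →ₗ[ZMod p] ZMod p) : V →ₗ[ZMod p] ZMod p where
  toFun v := f (a⁻¹ • v)
  map_add' x y := by rw [smul_add, map_add]
  map_smul' k x := by rw [smul_zmod, map_smul, RingHom.id_apply]

theorem tw_apply (a : A) (f : V →ₗ[ZMod p] ZMod p) (v : V) : tw a f v = f (a⁻¹ • v) := rfl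

theorem IsTv.conj {z : A} {f : V →ₗ[ZMod p] ZMod p} {c : V} (h : IsTv z f c) (a : A) :
    IsTv (a * z * a⁻¹) (tw a f) (a • c) := by
  refine ⟨fun v => ?_, ?_⟩
  · rw [mul_smul, mul_smul, h.1, smul_add, smul_inv_smul, smul_zmod, tw_apply]
  · rw [tw_apply, inv_smul_smul, h.2]

theorem IsTv.ne_zero {z : A} {f : V →ₗ[ZMod p] ZMod p} {c : V} (h : IsTv z f c) [FaithfulSMul A V]
    (hz : z ≠ 1) : f ≠ 0 ∧ c ≠ 0 := by
  constructor
  · rintro rfl
    apply hz
    apply FaithfulSMul.eq_of_smul_eq_smul (α := V)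
    intro v
    rw [h.1, one_smul, LinearMap.zero_apply, zero_smul, add_zero]
  · rintro rfl
    apply hz
    apply FaithfulSMul.eq_of_smul_eq_smul (α := V)
    intro v
    rw [h.1, one_smul, smul_zero, add_zero]

theorem IsTv.comm {z w : A} {f g : V →ₗ[ZMod p] ZMod p} {c d : V} (h : IsTv z f c) (h' : IsTv w g d)
    [FaithfulSMul A V] (h1 : f d = 0) (h2 : g c = 0) : z * w = w * z := by
  apply FaithfulSMul.eq_of_smul_eq_smul (α := V)
  intro v
  rw [mul_smul, mul_smul, h.1, h'.1, h'.1, h.1]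
  simp only [map_add, map_smul, h1, h2, smul_zero, add_zero]
  abel

/-- The property of a strongly embedded subgroup that we use. -/
def TI (p : ℕ) (B : Subgroup A) : Prop :=
  ∀ q ∈ B, q ≠ 1 → (∃ k, q ^ p ^ k = 1) → ∀ g : A, g⁻¹ * q * g ∈ B → g ∈ B

theorem TI.comm {B : Subgroup A} (hB : TI p B) {q g : A} (hq : q ∈ B) (hq1 : q ≠ 1)
    (hqp : ∃ k, q ^ p ^ k = 1) (hg : q * g = g * q) : g ∈ B := by
  apply hB q hq hq1 hqp g
  have : g⁻¹ * q * g = q := by rw [mul_assoc, hg, inv_mul_cancel_left]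
  rwa [this]

theorem TI.conj {B : Subgroup A} (hB : TI p B) (a : A) :
    TI p (B.map (MulAut.conj a).toMonoidHom) := by
  have hmem : ∀ x, x ∈ B.map (MulAut.conj a).toMonoidHom ↔ a⁻¹ * x * a ∈ B := by
    intro x
    constructor
    · rintro ⟨y, hy, rfl⟩
      have e : a⁻¹ * (a * y * a⁻¹) * a = y := by group
      show a⁻¹ * (a * y * a⁻¹) * a ∈ B
      rwa [e]
    · intro h
      refine ⟨a⁻¹ * x * a, h, ?_⟩
      show a * (a⁻¹ * x * a) * a⁻¹ = x
      group
  intro q hq hq1 hqp g hg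
  rw [hmem] at hq hg ⊢
  refine hB _ hq ?_ ?_ (a⁻¹ * g * a) ?_
  · intro h
    apply hq1
    have : q = a * (a⁻¹ * q * a) * a⁻¹ := by group
    rw [this, h]
    group
  · obtain ⟨k, hk⟩ := hqp
    refine ⟨k, ?_⟩
    have e : a⁻¹ * q * a = MulAut.conj a⁻¹ q := by simp [MulAut.conj_apply]
    rw [e, ← map_pow, hk, map_one]
  · have e : (a⁻¹ * g * a)⁻¹ * (a⁻¹ * q * a) * (a⁻¹ * g * a) = a⁻¹ * (g⁻¹ * q * g) * a := by group
    rwa [e]

theorem IsTv.pow_p {z : A} {f : V →ₗ[ZMod p] ZMod p} {c : V} (h : IsTv z f c) [FaithfulSMul A V] :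
    z ^ p = 1 := by
  apply FaithfulSMul.eq_of_smul_eq_smul (α := V)
  intro v
  rw [(h.pow p).1, one_smul]
  simp

theorem IsTv.isP {z : A} {f : V →ₗ[ZMod p] ZMod p} {c : V} (h : IsTv z f c) [FaithfulSMul A V] :
    ∃ k, z ^ p ^ k = 1 := ⟨1, by rw [pow_one, h.pow_p]⟩

/-- Two transvections, one of them in `B`, one of them centralizing the centre or normalizing the axis
of the other. -/
theorem tv_mem [FaithfulSMul A V] {B : Subgroup A} (hB : TI p B) {z w : A} {f g : V →ₗ[ZMod p] ZMod p}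
    {c d : V} (hz : IsTv z f c) (hw : IsTv w g d) (hzB : z ∈ B) (hz1 : z ≠ 1) (hw1 : w ≠ 1)
    (h : f d = 0 ∨ g c = 0) : w ∈ B := by
  obtain ⟨hf0, hc0⟩ := hz.ne_zero hz1
  obtain ⟨hg0, hd0⟩ := hw.ne_zero hw1
  by_cases hfd : f d = 0
  · by_cases hgc : g c = 0
    · exact hB.comm hzB hz1 hz.isP (hz.comm hw hfd hgc)
    · -- r = [z, w] : v ↦ v - f(v) g(c) d
      have hr : IsTv (z * w * z⁻¹ * w⁻¹) f (-(g c) • d) := by
        refine ⟨fun v => ?_, ?_⟩
        · have e1 : z * w * z⁻¹ * w⁻¹ = (z * w) * (w * z)⁻¹ := by group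
          obtain ⟨u, rfl⟩ : ∃ u, v = (w * z) • u := ⟨(w * z)⁻¹ • v, by rw [smul_inv_smul]⟩
          rw [e1, mul_smul, inv_smul_smul, mul_smul, mul_smul, hz.1, hw.1, hw.1, hz.1]
          simp only [map_add, map_smul, hfd, hz.2, smul_zero, add_zero, smul_eq_mul]
          module
        · rw [map_smul, hfd, smul_zero]
      have hr1 : z * w * z⁻¹ * w⁻¹ ≠ 1 := by
        intro h1
        apply hf0
        ext v
        have h2 := hr.1 v
        rw [h1, one_smul] at h2
        have h3 : f v • (-(g c) • d) = 0 := by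
          have := sub_eq_zero_of_eq h2.symm
          rwa [add_sub_cancel_left] at this
        rw [smul_smul, smul_eq_zero] at h3
        rcases h3 with h3 | h3
        · rcases mul_eq_zero.1 h3 with h4 | h4
          · exact h4
          · exact absurd (neg_eq_zero.1 h4) hgc
        · exact absurd h3 hd0
      have hrB : z * w * z⁻¹ * w⁻¹ ∈ B := by
        apply hB.comm hzB hz1 hz.isP
        apply hz.comm hr _ hz.2
        rw [map_smul, hfd, smul_zero]
      apply hB.comm hrB hr1 hr.isP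
      apply hr.comm hw hfd
      rw [map_smul, hw.2, smul_zero]
  · have hgc : g c = 0 := h.resolve_left hfd
    have hr : IsTv (z * w * z⁻¹ * w⁻¹) g (f d • c) := by
      refine ⟨fun v => ?_, ?_⟩
      · have e1 : z * w * z⁻¹ * w⁻¹ = (z * w) * (w * z)⁻¹ := by group
        obtain ⟨u, rfl⟩ : ∃ u, v = (w * z) • u := ⟨(w * z)⁻¹ • v, by rw [smul_inv_smul]⟩
        rw [e1, mul_smul, inv_smul_smul, mul_smul, mul_smul, hz.1, hw.1, hw.1, hz.1]
        simp only [map_add, map_smul, hgc, hw.2, smul_zero, add_zero, smul_eq_mul]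
        module
      · rw [map_smul, hgc, smul_zero]
    have hr1 : z * w * z⁻¹ * w⁻¹ ≠ 1 := by
      intro h1
      apply hg0
      ext v
      have h2 := hr.1 v
      rw [h1, one_smul] at h2
      have h3 : g v • (f d • c) = 0 := by
        have := sub_eq_zero_of_eq h2.symm
        rwa [add_sub_cancel_left] at this
      rw [smul_smul, smul_eq_zero] at h3
      rcases h3 with h3 | h3
      · rcases mul_eq_zero.1 h3 with h4 | h4
        · exact h4
        · exact absurd h4 hfd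
      · exact absurd h3 hc0
    have hrB : z * w * z⁻¹ * w⁻¹ ∈ B := by
      apply hB.comm hzB hz1 hz.isP
      apply hz.comm hr _ hgc
      rw [map_smul, hz.2, smul_zero]
    apply hB.comm hrB hr1 hr.isP
    apply hr.comm hw hw.2
    rw [map_smul, hgc, smul_zero]

/-- A conjugate of `z` in general position. -/
theorem general_position [FaithfulSMul A V] {B : Subgroup A} (hB : TI p B) {z : A}
    {f : V →ₗ[ZMod p] ZMod p} {c : V} (hz : IsTv z f c) (hzB : z ∈ B) (hz1 : z ≠ 1) {a : A}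
    (ha : a ∉ B) : f (a • c) ≠ 0 ∧ f (a⁻¹ • c) ≠ 0 := by
  have hn1 : a * z * a⁻¹ ≠ 1 := by
    intro h
    apply hz1
    have : z = a⁻¹ * (a * z * a⁻¹) * a := by group
    rw [this, h]
    group
  have hnB : a * z * a⁻¹ ∉ B := by
    intro h
    apply ha
    apply hB _ h hn1 (hz.conj a).isP a
    have : a⁻¹ * (a * z * a⁻¹) * a = z := by group
    rwa [this]
  constructor
  · intro h
    exact hnB (tv_mem hB hz (hz.conj a) hzB hz1 hn1 (Or.inl h))
  · intro h
    exact hnB (tv_mem hB hz (hz.conj a) hzB hz1 hn1 (Or.inr h))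

theorem exists_coeff {a b : ZMod p} (hb : b ≠ 0) : ∃ k : ℕ, a + (k : ZMod p) * b = 0 := by
  refine ⟨(-a * b⁻¹).val, ?_⟩
  rw [ZMod.natCast_zmod_val]
  field_simp
  ring

/-- **The centralizer of a transvection**: the only `p`-elements commuting with `z` are its powers. -/
theorem pElement_mem_zpowers [FaithfulSMul A V] {B : Subgroup A} (hB : TI p B) (hBt : B ≠ ⊤) {z : A}
    {f : V →ₗ[ZMod p] ZMod p} {c : V} (hz : IsTv z f c) (hzB : z ∈ B) (hz1 : z ≠ 1) {x : A}
    (hx : ∃ k, x ^ p ^ k = 1) (hxz : z * x = x * z) : x ∈ Subgroup.zpowers z := by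
  obtain ⟨a, ha⟩ : ∃ a, a ∉ B := by
    by_contra hcon
    push Not at hcon
    exact hBt (eq_top_iff.2 fun a _ => hcon a)
  obtain ⟨h1, h2⟩ := general_position hB hz hzB hz1 ha
  obtain ⟨hf0, hc0⟩ := hz.ne_zero hz1
  have hxB : x ∈ B := hB.comm hzB hz1 hz.isP hxz
  set f' := tw a f with hf'
  set c' := a • c with hc'
  have hz' : IsTv (a * z * a⁻¹) f' c' := hz.conj a
  have hf'c : f' c ≠ 0 := h2
  -- k
  obtain ⟨k, hk⟩ := exists_coeff (a := f' (x • c')) (b := f (x • c') * f' c) (by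
    -- f (x • c') ≠ 0: x fixes the axis up to scalar
    apply mul_ne_zero _ hf'c
    intro h
    -- f (x c') = 0; z x c' = x c' ; so x z c' = x c', z c' = c', f c' = 0
    have e1 : z • (x • c') = x • c' := by rw [hz.1, h, zero_smul, add_zero]
    rw [← mul_smul, hxz, mul_smul] at e1
    have e2 : z • c' = c' := smul_left_cancel x e1
    rw [hz.1] at e2
    have e3 : f c' • c = 0 := by
      have := sub_eq_zero_of_eq e2
      rwa [add_sub_cancel_left] at this
    rcases smul_eq_zero.1 e3 with e4 | e4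
    · exact h1 e4
    · exact hc0 e4)
  set x1 := z ^ k * x with hx1
  have hx1f : f' (x1 • c') = 0 := by
    rw [hx1, mul_smul, (hz.pow k).1, LinearMap.smul_apply, LinearMap.map_add, LinearMap.map_smul]
    rw [smul_eq_mul, smul_eq_mul, ← hk]
    ring
  have hx1B : x1 ∈ B := B.mul_mem (B.pow_mem hzB k) hxB
  -- x1 is a p-element
  have hx1p : ∃ j, x1 ^ p ^ j = 1 := by
    obtain ⟨j, hj⟩ := hx
    refine ⟨j + 1, ?_⟩
    have hcomm : Commute (z ^ k) x := (Commute.pow_left (show Commute z x from hxz) k)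
    have e : (z ^ k) ^ p ^ (j + 1) = (z ^ p) ^ (k * p ^ j) := by
      rw [← pow_mul, ← pow_mul]
      congr 1
      ring
    rw [hx1, hcomm.mul_pow, e, hz.pow_p, one_pow, one_mul, pow_succ, pow_mul, hj, one_pow]
  have hBa := hB.conj a
  have hmem : ∀ x, x ∈ B.map (MulAut.conj a).toMonoidHom ↔ a⁻¹ * x * a ∈ B := by
    intro x
    constructor
    · rintro ⟨y, hy, rfl⟩
      have e : a⁻¹ * (a * y * a⁻¹) * a = y := by group
      show a⁻¹ * (a * y * a⁻¹) * a ∈ B
      rwa [e]
    · intro h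
      refine ⟨a⁻¹ * x * a, h, ?_⟩
      show a * (a⁻¹ * x * a) * a⁻¹ = x
      group
  have hz'B : a * z * a⁻¹ ∈ B.map (MulAut.conj a).toMonoidHom := by
    rw [hmem]
    have : a⁻¹ * (a * z * a⁻¹) * a = z := by group
    rwa [this]
  have hz'1 : a * z * a⁻¹ ≠ 1 := by
    intro h
    apply hz1
    have : z = a⁻¹ * (a * z * a⁻¹) * a := by group
    rw [this, h]
    group
  have hz''1 : x1 * (a * z * a⁻¹) * x1⁻¹ ≠ 1 := by
    intro h
    apply hz'1
    have : a * z * a⁻¹ = x1⁻¹ * (x1 * (a * z * a⁻¹) * x1⁻¹) * x1 := by group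
    rw [this, h]
    group
  have h3 : x1 * (a * z * a⁻¹) * x1⁻¹ ∈ B.map (MulAut.conj a).toMonoidHom :=
    tv_mem hBa hz' (hz'.conj x1) hz'B hz'1 hz''1 (Or.inl hx1f)
  have h4 : x1 ∈ B.map (MulAut.conj a).toMonoidHom := by
    apply hBa _ h3 hz''1 (hz'.conj x1).isP x1
    have : x1⁻¹ * (x1 * (a * z * a⁻¹) * x1⁻¹) * x1 = a * z * a⁻¹ := by group
    rwa [this]
  rw [hmem] at h4
  have h5 : x1 = 1 := by
    by_contra hne
    exact ha (hB x1 hx1B hne hx1p a h4)
  have h6 : x = (z ^ k)⁻¹ := eq_inv_of_mul_eq_one_right h5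
  rw [h6]
  exact Subgroup.inv_mem _ (Subgroup.pow_mem _ (Subgroup.mem_zpowers z) k)

/-- **The involution** commuting with `z`. -/
theorem exists_involution [FaithfulSMul A V] {B : Subgroup A} (hB : TI p B) (hBt : B ≠ ⊤) {z : A}
    {f : V →ₗ[ZMod p] ZMod p} {c : V} (hz : IsTv z f c) (hzB : z ∈ B) (hz1 : z ≠ 1) :
    ∃ t : A, t * t = 1 ∧ t * z = z * t ∧ t • c = -c ∧ (∀ v, f (t • v) = - f v) ∧
      ∀ v, f v = 0 → ∃ k : ZMod p, t • v = v + k • c := by
  obtain ⟨a, ha⟩ : ∃ a, a ∉ B := by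
    by_contra hcon
    push Not at hcon
    exact hBt (eq_top_iff.2 fun a _ => hcon a)
  obtain ⟨h1, h2⟩ := general_position hB hz hzB hz1 ha
  set c' := a • c with hc'
  have hz' : IsTv (a * z * a⁻¹) (tw a f) c' := hz.conj a
  have hf'c : tw a f c ≠ 0 := h2
  obtain ⟨j, hj⟩ := exists_coeff (a := (1 : ZMod p)) (b := tw a f c * f c') (mul_ne_zero hf'c h1)
  set g : V →ₗ[ZMod p] ZMod p := (j : ZMod p) • tw a f with hg
  set y := (a * z * a⁻¹) ^ j with hy
  have hyt : IsTv y g c' := hz'.pow j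
  have hgc : g c * f c' = -1 := by
    rw [hg, LinearMap.smul_apply, smul_eq_mul]
    linear_combination hj
  have hgc' : g c' = 0 := hyt.2
  clear_value c' g y
  have hfc : f c = 0 := hz.2
  -- t = (z y z)^2
  have hw : ∀ v, (z * y * z) • v = v + (f c' * g v + f v * (1 + f c' * g c) + f v) • c +
      (g v + f v * g c) • c' := by
    intro v
    rw [mul_smul, mul_smul, hz.1, hyt.1, hz.1]
    simp only [map_add, map_smul, hfc, smul_eq_mul]
    module
  have hw' : ∀ v, (z * y * z) • v = v + (f c' * g v + f v) • c + (g v + f v * g c) • c' := by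
    intro v
    rw [hw, mul_comm (f c') (g c), hgc]
    module
  have ht : ∀ v, ((z * y * z) * (z * y * z)) • v =
      v + (2 * (f c' * g v)) • c + (2 * (g c * f v)) • c' := by
    intro v
    rw [mul_smul, hw', hw' v]
    simp only [map_add, map_smul, hfc, hgc', smul_eq_mul, mul_zero, add_zero]
    have e3 : f c' * (g v + (f c' * g v + f v) * g c) + (f v + (g v + f v * g c) * f c') =
        f c' * g v - f v := by
      linear_combination (f c' * g v + 2 * f v) * hgc
    have e4 : g v + (f c' * g v + f v) * g c + (f v + (g v + f v * g c) * f c') * g c =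
        f v * g c - g v := by
      linear_combination (2 * g v + f v * g c) * hgc
    rw [e3, e4]
    module
  have hfs : ∀ v, f (((z * y * z) * (z * y * z)) • v) = - f v := by
    intro v
    rw [ht]
    simp only [map_add, map_smul, hfc, smul_eq_mul, mul_zero, add_zero]
    linear_combination (2 * f v) * hgc
  have hgs : ∀ v, g (((z * y * z) * (z * y * z)) • v) = - g v := by
    intro v
    rw [ht]
    simp only [map_add, map_smul, hgc', smul_eq_mul, mul_zero, add_zero]
    linear_combination (2 * g v) * hgc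
  refine ⟨(z * y * z) * (z * y * z), ?_, ?_, ?_, hfs, ?_⟩
  · apply FaithfulSMul.eq_of_smul_eq_smul (α := V)
    intro v
    rw [mul_smul, ht (_ • v), hfs, hgs, ht v, one_smul]
    module
  · apply FaithfulSMul.eq_of_smul_eq_smul (α := V)
    intro v
    rw [mul_smul _ z v, mul_smul z _ v, hz.1 (((z * y * z) * (z * y * z)) • v), hfs, ht v, ht (z • v),
      hz.1]
    simp only [map_add, map_smul, hfc, smul_eq_mul]
    have e5 : f c' * (g v + f v * g c) = f c' * g v - f v := by linear_combination (f v) * hgc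
    rw [e5]
    module
  · rw [ht, hfc]
    have e6 : 2 * (f c' * g c) = -2 := by linear_combination 2 * hgc
    rw [e6]
    module
  · intro v hv
    refine ⟨2 * (f c' * g v), ?_⟩
    rw [ht, hv]
    module

end Cfsg.Agent.H797.StrongTv
end

-- part: H797/StrongTvMul
section
/-!
# Multiplicative version of the transvection lemmas
-/

set_option autoImplicit false
set_option linter.unusedSectionVars false

namespace Cfsg.Agent.H797.StrongTv

open Subgroup

/-- An additive map of an elementary abelian group with kernel of index `p` and with `φ ∘ φ = 0` is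
`v ↦ f(v) c`. -/
theorem exists_tv {p : ℕ} [hp : Fact p.Prime] {V : Type*} [AddCommGroup V] [Module (ZMod p) V]
    {A : Type*} [Group A] [DistribMulAction A V] {z : A} (v₀ : V) (hv₀ : z • v₀ ≠ v₀)
    (hgen : ∀ v : V, ∃ k : ZMod p, z • (v - k • v₀) = v - k • v₀)
    (hz2 : ∀ v : V, z • (z • v - v) = z • v - v) :
    ∃ f : V →ₗ[ZMod p] ZMod p, IsTv z f (z • v₀ - v₀) := by
  have hk : ∀ v, ∃ k : ZMod p, z • v = v + k • (z • v₀ - v₀) := by
    intro v
    obtain ⟨k, hk⟩ := hgen v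
    refine ⟨k, ?_⟩
    have e : v = (v - k • v₀) + k • v₀ := by abel
    have e2 : z • v = z • (v - k • v₀) + k • (z • v₀) := by
      conv_lhs => rw [e]
      rw [smul_add, smul_zmod]
    rw [e2, hk, smul_sub]
    abel
  set c := z • v₀ - v₀ with hc
  have hc0 : c ≠ 0 := sub_ne_zero.2 hv₀
  choose f hf using hk
  have huniq : ∀ (a b : ZMod p), a • c = b • c → a = b := by
    intro a b hab
    have h1 : (a - b) • c = 0 := by rw [sub_smul, hab, sub_self]
    rcases smul_eq_zero.1 h1 with h2 | h2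
    · exact sub_eq_zero.1 h2
    · exact absurd h2 hc0
  let F : V →ₗ[ZMod p] ZMod p :=
    { toFun := f
      map_add' := by
        intro x y
        apply huniq
        have h1 := hf (x + y)
        rw [smul_add, hf x, hf y] at h1
        have h2 : f (x + y) • c = f x • c + f y • c := by
          have : x + y + f (x + y) • c = x + y + (f x • c + f y • c) := by
            rw [← h1]; abel
          exact add_left_cancel this
        rw [h2, add_smul]
      map_smul' := by
        intro k x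
        apply huniq
        have h1 := hf (k • x)
        rw [smul_zmod, hf x, smul_add] at h1
        have h2 := add_left_cancel h1
        rw [← h2, RingHom.id_apply, smul_eq_mul, mul_smul] }
  refine ⟨F, fun v => hf v, ?_⟩
  show f c = 0
  apply huniq
  have h1 := hz2 v₀
  rw [← hc, hf c] at h1
  rw [zero_smul]
  have : c + f c • c = c + 0 := by rw [h1, add_zero]
  exact add_left_cancel this

/-- Additive form of the two lemmas. -/
theorem add_form' {p : ℕ} [hp : Fact p.Prime] {V : Type*} [AddCommGroup V] [Module (ZMod p) V]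
    {A : Type*} [Group A] [DistribMulAction A V] [FaithfulSMul A V] {B : Subgroup A} (hB : TI p B)
    (hBt : B ≠ ⊤) {z : A} (hzB : z ∈ B) (v₀ : V) (hv₀ : z • v₀ ≠ v₀)
    (hgen : ∀ v : V, ∃ k : ℕ, z • (v - k • v₀) = v - k • v₀)
    (hz2 : ∀ v : V, z • (z • v - v) = z • v - v) :
    (∀ x : A, (∃ k, x ^ p ^ k = 1) → z * x = x * z → x ∈ Subgroup.zpowers z) ∧
    ∃ t : A, t * t = 1 ∧ t * z = z * t ∧
      (∀ v : V, t • (z • v - v) = -(z • v - v)) ∧
      (∀ v : V, z • (t • v + v) = t • v + v) ∧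
      (∀ v : V, z • v = v → ∃ k : ℕ, t • v = v + k • (z • v₀ - v₀)) := by
  have hsm : ∀ (k : ZMod p) (v : V), k • v = k.val • v := by
    intro k v
    have h1 : (k.val : ZMod p) • v = k.val • v := Nat.cast_smul_eq_nsmul _ _ _
    rwa [ZMod.natCast_zmod_val] at h1
  have hsn : ∀ (k : ℕ) (v : V), (k : ZMod p) • v = k • v := by
    intro k v
    rw [Nat.cast_smul_eq_nsmul]
  obtain ⟨f, hf⟩ := exists_tv (p := p) (z := z) v₀ hv₀ (by
      intro v
      obtain ⟨k, hk⟩ := hgen v
      refine ⟨(k : ZMod p), ?_⟩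
      rw [hsn]
      exact hk) hz2
  have hz1 : z ≠ 1 := by
    rintro rfl
    exact hv₀ (one_smul _ _)
  refine ⟨fun x hx hxz => pElement_mem_zpowers hB hBt hf hzB hz1 hx hxz, ?_⟩
  obtain ⟨t, ht1, ht2, ht3, ht4, ht5⟩ := exists_involution hB hBt hf hzB hz1
  refine ⟨t, ht1, ht2, ?_, ?_, ?_⟩
  · intro v
    rw [hf.1 v, add_sub_cancel_left, smul_zmod, ht3, smul_neg]
  · intro v
    rw [hf.1, map_add, ht4, neg_add_cancel, zero_smul, add_zero]
  · intro v hv
    have h1 : f v = 0 := by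
      have h2 := hf.1 v
      rw [hv] at h2
      have h3 : f v • (z • v₀ - v₀) = 0 := by
        have : v + 0 = v + f v • (z • v₀ - v₀) := by
          rw [add_zero]; exact h2
        exact (add_left_cancel this).symm
      rcases smul_eq_zero.1 h3 with h4 | h4
      · exact h4
      · exact absurd (sub_eq_zero.1 h4) hv₀
    obtain ⟨k, hk⟩ := ht5 _ h1
    exact ⟨k.val, by rw [hk, hsm]⟩

/-- Additive form of the two lemmas. -/
theorem add_form {p : ℕ} [hp : Fact p.Prime] {V : Type*} [AddCommGroup V] (hexp : ∀ v : V, p • v = 0)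
    {A : Type*} [Group A] [DistribMulAction A V] [FaithfulSMul A V] {B : Subgroup A} (hB : TI p B)
    (hBt : B ≠ ⊤) {z : A} (hzB : z ∈ B) (v₀ : V) (hv₀ : z • v₀ ≠ v₀)
    (hgen : ∀ v : V, ∃ k : ℕ, z • (v - k • v₀) = v - k • v₀)
    (hz2 : ∀ v : V, z • (z • v - v) = z • v - v) :
    (∀ x : A, (∃ k, x ^ p ^ k = 1) → z * x = x * z → x ∈ Subgroup.zpowers z) ∧
    ∃ t : A, t * t = 1 ∧ t * z = z * t ∧
      (∀ v : V, t • (z • v - v) = -(z • v - v)) ∧
      (∀ v : V, z • (t • v + v) = t • v + v) ∧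
      (∀ v : V, z • v = v → ∃ k : ℕ, t • v = v + k • (z • v₀ - v₀)) := by
  let _ : Module (ZMod p) V := AddCommGroup.zmodModule hexp
  exact add_form' hB hBt hzB v₀ hv₀ hgen hz2

section

variable {p : ℕ} [hp : Fact p.Prime] {V : Type*} [CommGroup V]

/-- The action of `A ≤ Aut(V)` on `Additive V`. -/
@[reducible] def actInst (A : Subgroup (MulAut V)) : DistribMulAction A (Additive V) where
  smul a v := Additive.ofMul ((a : MulAut V) (Additive.toMul v))
  one_smul v := rfl
  mul_smul a b v := rfl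
  smul_zero a := by
    show Additive.ofMul ((a : MulAut V) 1) = 0
    rw [map_one]; rfl
  smul_add a v w := by
    show Additive.ofMul ((a : MulAut V) (Additive.toMul v * Additive.toMul w)) = _
    rw [map_mul]; rfl

theorem actInst_smul (A : Subgroup (MulAut V)) (a : A) (v : V) :
    letI := actInst A
    a • Additive.ofMul v = Additive.ofMul ((a : MulAut V) v) := rfl

theorem actInst_faithful (A : Subgroup (MulAut V)) :
    letI := actInst A
    FaithfulSMul A (Additive V) := by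
  letI := actInst A
  refine ⟨fun {a b} h => ?_⟩
  apply Subtype.ext
  apply MulEquiv.ext
  intro v
  have := h (Additive.ofMul v)
  rw [actInst_smul, actInst_smul] at this
  exact Additive.ofMul.injective this

/-- Multiplicative form of the two lemmas. -/
theorem mul_form (hexp : ∀ v : V, v ^ p = 1) (A : Subgroup (MulAut V)) {B : Subgroup A} (hB : TI p B)
    (hBt : B ≠ ⊤) {z : A} (hzB : z ∈ B) (v₀ : V) (hv₀ : (z : MulAut V) v₀ ≠ v₀)
    (hgen : ∀ v : V, ∃ k : ℕ, (z : MulAut V) (v / v₀ ^ k) = v / v₀ ^ k)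
    (hz2 : ∀ v : V, (z : MulAut V) ((z : MulAut V) v / v) = (z : MulAut V) v / v) :
    (∀ x : A, (∃ k, x ^ p ^ k = 1) → z * x = x * z → x ∈ Subgroup.zpowers z) ∧
    ∃ t : A, t * t = 1 ∧ t * z = z * t ∧
      (∀ v : V, (t : MulAut V) ((z : MulAut V) v / v) = ((z : MulAut V) v / v)⁻¹) ∧
      (∀ v : V, (z : MulAut V) ((t : MulAut V) v * v) = (t : MulAut V) v * v) ∧
      (∀ v : V, (z : MulAut V) v = v → ∃ k : ℕ, (t : MulAut V) v = v * ((z : MulAut V) v₀ / v₀) ^ k) := by
  let _ := actInst A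
  have _ := actInst_faithful A
  obtain ⟨h1, t, h2, h3, h4, h5, h6⟩ := add_form (p := p) (V := Additive V) (A := A)
    (fun v => congrArg Additive.ofMul (hexp (Additive.toMul v))) hB hBt hzB (Additive.ofMul v₀)
    (fun h => hv₀ (Additive.ofMul.injective h))
    (fun v => by
      obtain ⟨k, hk⟩ := hgen (Additive.toMul v)
      exact ⟨k, congrArg Additive.ofMul hk⟩)
    (fun v => congrArg Additive.ofMul (hz2 (Additive.toMul v)))
  refine ⟨h1, t, h2, h3, fun v => ?_, fun v => ?_, fun v hv => ?_⟩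
  · exact Additive.ofMul.injective (h4 (Additive.ofMul v))
  · exact Additive.ofMul.injective (h5 (Additive.ofMul v))
  · obtain ⟨k, hk⟩ := h6 (Additive.ofMul v) (congrArg Additive.ofMul hv)
    exact ⟨k, Additive.ofMul.injective hk⟩

end

end Cfsg.Agent.H797.StrongTv
end

-- part: H797/EssTv
section
/-!
# Abelian essential subgroups with a transvection in `Aut_F(E)`
-/

set_option autoImplicit false
set_option linter.unusedSectionVars false

namespace Cfsg.Agent.H797.EssTv

open Cfsg Cfsg.FusionSystem Cfsg.Agent.H802 Cfsg.Agent.H766 Cfsg.Agent.H797.StrongTv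

theorem TI_of_strongly {X : Type*} [Group X] [Finite X] {p : ℕ} [hp : Fact p.Prime] {B : Subgroup X}
    (hB : IsStronglyPEmbedded p B) : TI p B := by
  intro q hq hq1 hqp g hg
  by_contra hgB
  have h1 := Cfsg.Agent.EvenType.StrongP.inter hB hgB
  apply h1
  have h2 : q ∈ B ⊓ B.map (MulAut.conj g).toMonoidHom := by
    refine Subgroup.mem_inf.2 ⟨hq, ?_⟩
    rw [Cfsg.Agent.EvenType.StrongP.mem_map_conj]
    exact hg
  obtain ⟨k, hk⟩ := hqp
  have h3 : orderOf q ∣ p ^ k := orderOf_dvd_of_pow_eq_one hk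
  obtain ⟨j, -, hj⟩ := (Nat.dvd_prime_pow hp.out).1 h3
  have hj0 : j ≠ 0 := by
    rintro rfl
    rw [pow_zero] at hj
    exact hq1 (orderOf_eq_one_iff.1 hj)
  have h4 : p ∣ orderOf q := by
    rw [hj]
    exact dvd_pow_self p hj0
  exact h4.trans (Subgroup.orderOf_dvd_natCard _ h2)

/-- A strongly embedded subgroup containing a given `p`-element. -/
theorem exists_TI_mem {X : Type*} [Group X] [Finite X] {p : ℕ} [hp : Fact p.Prime] {B : Subgroup X}
    (hB : IsStronglyPEmbedded p B) {z : X} (hz : ∃ k, z ^ p ^ k = 1) :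
    ∃ B' : Subgroup X, TI p B' ∧ B' ≠ ⊤ ∧ z ∈ B' := by
  have hT := TI_of_strongly hB
  obtain ⟨h1, h2, P, hP⟩ := hB
  have hPB := Cfsg.Agent.EvenType.StrongP.sylow_le h1 hP
  have hzp : IsPGroup p (Subgroup.zpowers z) := by
    obtain ⟨k, hk⟩ := hz
    rintro ⟨g, hg⟩
    obtain ⟨m, rfl⟩ := Subgroup.mem_zpowers_iff.1 hg
    refine ⟨k, ?_⟩
    apply Subtype.ext
    show (z ^ m) ^ p ^ k = 1
    rw [← zpow_natCast, ← zpow_mul, mul_comm, zpow_mul, zpow_natCast, hk, one_zpow]
  obtain ⟨Q, hQ⟩ := hzp.exists_le_sylow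
  obtain ⟨g, hg⟩ := MulAction.exists_smul_eq X P Q
  refine ⟨B.map (MulAut.conj g).toMonoidHom, hT.conj g, ?_, ?_⟩
  · intro htop
    apply h2
    rw [eq_top_iff]
    intro x _
    have h3 : g * x * g⁻¹ ∈ B.map (MulAut.conj g).toMonoidHom := by rw [htop]; trivial
    rw [Cfsg.Agent.EvenType.StrongP.mem_map_conj] at h3
    have e : g⁻¹ * (g * x * g⁻¹) * g = x := by group
    rwa [e] at h3
  · have h3 : z ∈ (Q : Subgroup X) := hQ (Subgroup.mem_zpowers z)
    rw [← hg, Sylow.coe_subgroup_smul] at h3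
    obtain ⟨y, hy, hyz⟩ := h3
    exact ⟨y, hPB hy, hyz⟩

variable {Ω : Type*} [Group Ω] {S : Subgroup Ω}

theorem Inn_subgroupOf_eq_bot {E : Subgroup Ω} (hab : ∀ x y : E, x * y = y * x)
    (A : Subgroup (MulAut E)) : (Inn E).subgroupOf A = ⊥ := by
  rw [eq_bot_iff]
  rintro ⟨α, hα⟩ h
  rw [Subgroup.mem_subgroupOf] at h
  obtain ⟨e, he⟩ := h
  rw [Subgroup.mem_bot]
  apply Subtype.ext
  show α = 1
  have he' : MulAut.conj e = α := he
  rw [← he']
  apply MulEquiv.ext
  intro x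
  rw [MulAut.conj_apply, hab e x, mul_inv_cancel_right]
  rfl

theorem ess_tv {p : ℕ} [hp : Fact p.Prime] [Finite S] {F : FusionSystem S}
    {E : Subgroup Ω} (hE : F.IsEssential p E) (hab : ∀ x y : E, x * y = y * x)
    (hexp : ∀ x : E, x ^ p = 1) {γ : MulAut E} (hγ : γ ∈ F.autGroup E) (hγp : ∃ k, γ ^ p ^ k = 1)
    (v₀ : E) (hv₀ : γ v₀ ≠ v₀) (hgen : ∀ v : E, ∃ k : ℕ, γ (v * (v₀ ^ k)⁻¹) = v * (v₀ ^ k)⁻¹)
    (hz2 : ∀ v : E, γ (γ v * v⁻¹) = γ v * v⁻¹) :
    (∀ x ∈ F.autGroup E, (∃ k, x ^ p ^ k = 1) → γ * x = x * γ → ∃ k : ℤ, γ ^ k = x) ∧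
    ∃ t ∈ F.autGroup E, t * t = 1 ∧ t * γ = γ * t ∧
      (∀ v : E, t (γ v * v⁻¹) = (γ v * v⁻¹)⁻¹) ∧
      (∀ v : E, γ (t v * v) = t v * v) ∧
      (∀ v : E, γ v = v → ∃ k : ℕ, t v = v * (γ v₀ * v₀⁻¹) ^ k) := by
  have hle := ess_le hE
  have : Finite E := finite_of_le hle
  have hbot := Inn_subgroupOf_eq_bot hab (F.autGroup E)
  obtain ⟨-, -, hn, B₀, hB₀⟩ := hE
  set q : F.autGroup E →* F.autGroup E ⧸ (Inn E).subgroupOf (F.autGroup E) :=
    QuotientGroup.mk' _ with hq
  have hqinj : ∀ x, q x = 1 → x = 1 := by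
    intro x hx
    rw [hq, QuotientGroup.mk'_apply, QuotientGroup.eq_one_iff, hbot, Subgroup.mem_bot] at hx
    exact hx
  obtain ⟨B', hB', hB't, hγB'⟩ := exists_TI_mem hB₀ (z := q ⟨γ, hγ⟩) (by
    obtain ⟨k, hk⟩ := hγp
    refine ⟨k, ?_⟩
    rw [← map_pow]
    have : (⟨γ, hγ⟩ : F.autGroup E) ^ p ^ k = 1 := Subtype.ext hk
    rw [this, map_one])
  have hB : TI p (B'.comap q) := by
    intro x hx hx1 hxp g hg
    obtain ⟨k, hk⟩ := hxp
    refine hB' (q x) hx (fun h => hx1 (hqinj x h)) ⟨k, by rw [← map_pow, hk, map_one]⟩ (q g) ?_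
    rw [← map_inv, ← map_mul, ← map_mul]
    exact hg
  have hBt : B'.comap q ≠ ⊤ := by
    intro htop
    apply hB't
    rw [eq_top_iff]
    intro y _
    obtain ⟨x, rfl⟩ := QuotientGroup.mk'_surjective _ y
    have : x ∈ B'.comap q := by rw [htop]; trivial
    exact this
  let _ : CommGroup E := { (inferInstance : Group E) with mul_comm := hab }
  obtain ⟨h1, t, h2, h3, h4, h5, h6⟩ := mul_form (V := E) hexp (F.autGroup E) hB hBt (z := ⟨γ, hγ⟩) hγB'
    v₀ hv₀ (fun v => by
      obtain ⟨k, hk⟩ := hgen v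
      exact ⟨k, by simpa [div_eq_mul_inv] using hk⟩)
    (fun v => by
      have := hz2 v
      simpa [div_eq_mul_inv] using this)
  refine ⟨?_, t, t.2, congrArg Subtype.val h2, congrArg Subtype.val h3, ?_, h5, ?_⟩
  · intro x hx hxp hxγ
    obtain ⟨k, hk⟩ := hxp
    obtain ⟨m, hm⟩ := Subgroup.mem_zpowers_iff.1
      (h1 ⟨x, hx⟩ ⟨k, Subtype.ext hk⟩ (Subtype.ext hxγ))
    exact ⟨m, congrArg Subtype.val hm⟩
  · intro v
    have := h4 v
    rw [div_eq_mul_inv] at this
    exact this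
  · intro v hv
    obtain ⟨k, hk⟩ := h6 v hv
    rw [div_eq_mul_inv] at hk
    exact ⟨k, hk⟩

end Cfsg.Agent.H797.EssTv
end
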