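import Cfsg.Agent.H797.MaxParity
import Cfsg.Agent.H467.MaxClassUniform
import Cfsg.Agent.H797.EssTv
import Cfsg.Agent.H802.FusNorm
import Cfsg.Agent.H759.FusNormal
import Cfsg.Agent.H802.FusAlp
set_option linter.all false

-- part: H797/MaxOmega
section
/-!
# The chain of a subgroup `S ≤ Ω` of maximal class, as subgroups of `Ω`
-/

set_option autoImplicit false
set_option linter.unusedSectionVars false

namespace Cfsg.Agent.H797.MaxOmega

open Subgroup Cfsg.Agent.H467.MaxClass Cfsg.Agent.H797.MaxParity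
open scoped commutatorElement

universe u

variable {Ω : Type u} [Group Ω] {S : Subgroup Ω} {p n : ℕ} {W : ℕ → Subgroup S}

/-- the chain in `Ω` -/
def V (W : ℕ → Subgroup S) (i : ℕ) : Subgroup Ω := (W i).map S.subtype

theorem mem_V {i : ℕ} {x : Ω} : x ∈ V W i ↔ ∃ hx : x ∈ S, (⟨x, hx⟩ : S) ∈ W i := by
  constructor
  · rintro ⟨y, hy, rfl⟩
    exact ⟨y.2, hy⟩
  · rintro ⟨hx, h⟩
    exact ⟨_, h, rfl⟩

theorem V_le (i : ℕ) : V W i ≤ S := by
  rintro _ ⟨y, -, rfl⟩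
  exact y.2

theorem V_zero (h : MC S p n W) : V W 0 = S := by
  rw [V, h.zero, ← MonoidHom.range_eq_map, Subgroup.range_subtype]

theorem V_bot (h : MC S p n W) {i : ℕ} (hi : n ≤ i) : V W i = ⊥ := by
  rw [V, h.bot_of_le hi, Subgroup.map_bot]

theorem V_anti (h : MC S p n W) {i j : ℕ} (hij : i ≤ j) : V W j ≤ V W i :=
  Subgroup.map_mono (h.antitone hij)

theorem V_card (h : MC S p n W) (i : ℕ) (hi : i ≤ n) : Nat.card (V W (n - i)) = p ^ i := by
  rw [← h.card_W i hi]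
  exact (Nat.card_congr ((W (n - i)).equivMapOfInjective _ S.subtype_injective).toEquiv).symm

theorem V_comm (h : MC S p n W) [hp : Fact p.Prime] {i j : ℕ} {a b : Ω} (ha : a ∈ V W i)
    (hb : b ∈ V W j) : ⁅a, b⁆ ∈ V W (i + j) := by
  obtain ⟨ha, ha'⟩ := mem_V.1 ha
  obtain ⟨hb, hb'⟩ := mem_V.1 hb
  exact ⟨_, h.comm_comm_mem ha' hb', rfl⟩

theorem V_comm_S (h : MC S p n W) {i : ℕ} {a s : Ω} (ha : a ∈ V W i)
    (hs : s ∈ S) : ⁅a, s⁆ ∈ V W (i + 1) := by
  obtain ⟨ha, ha'⟩ := mem_V.1 ha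
  exact ⟨_, h.comm_mem (x := ⟨s, hs⟩) ha', rfl⟩

theorem V_comm_S' (h : MC S p n W) {i : ℕ} {a s : Ω} (ha : a ∈ V W i)
    (hs : s ∈ S) : ⁅s, a⁆ ∈ V W (i + 1) := by
  rw [← commutatorElement_inv]
  exact Subgroup.inv_mem _ (V_comm_S h ha hs)

theorem V_conj (h : MC S p n W) {i : ℕ} {a s : Ω} (ha : a ∈ V W i) (hs : s ∈ S) :
    s * a * s⁻¹ ∈ V W i := by
  obtain ⟨ha, ha'⟩ := mem_V.1 ha
  exact ⟨_, h.conj_mem ha' ⟨s, hs⟩, rfl⟩

theorem V_self (h : MC S p n W) [hp : Fact p.Prime] {i : ℕ} {a b : Ω} (ha : a ∈ V W i)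
    (hb : b ∈ V W i) : ⁅a, b⁆ ∈ V W (2 * i + 1) := by
  obtain ⟨ha, ha'⟩ := mem_V.1 ha
  obtain ⟨hb, hb'⟩ := mem_V.1 hb
  exact ⟨_, h.comm_self ha' hb', rfl⟩

theorem V_black [Finite S] (h : MC S p n W) [hp : Fact p.Prime] (hp3 : 3 ≤ p) {i : ℕ} (h2 : 2 ≤ i)
    (hi : i + 3 ≤ n) {a b : Ω} (ha : a ∈ V W i) (hb : b ∈ V W 1) : ⁅a, b⁆ ∈ V W (i + 2) := by
  obtain ⟨ha, ha'⟩ := mem_V.1 ha
  obtain ⟨hb, hb'⟩ := mem_V.1 hb
  exact ⟨_, h.blackburn hp3 i h2 hi (commutator_mem_commutator ha' hb'), rfl⟩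

theorem V_deg [Finite S] (h : MC S p n W) [hp : Fact p.Prime] (hp3 : 3 ≤ p) {i j : ℕ} (h1 : 1 ≤ i)
    (hj : 1 ≤ j) (hi : i + j + 2 ≤ n) {a b : Ω} (ha : a ∈ V W i) (hb : b ∈ V W j) :
    ⁅a, b⁆ ∈ V W (i + j + 1) := by
  obtain ⟨ha, ha'⟩ := mem_V.1 ha
  obtain ⟨hb, hb'⟩ := mem_V.1 hb
  exact ⟨_, h.deg (k := n - 2) (fun j h2 hj => h.blackburn hp3 j h2 (by omega)) j i h1 hj (by omega)
    (commutator_mem_commutator ha' hb'), rfl⟩

theorem V_of_K [Finite S] (h : MC S p n W) [hp : Fact p.Prime] (hp3 : 3 ≤ p) {i : ℕ} (h1 : 1 ≤ i)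
    (hi : i + 3 ≤ n) {x : Ω} (hx : x ∈ S) (hK : ∀ a ∈ V W i, ⁅a, x⁆ ∈ V W (i + 2)) : x ∈ V W 1 := by
  refine mem_V.2 ⟨hx, ?_⟩
  rw [← Ksub_eq h hp3 h1 hi]
  intro w hw
  obtain ⟨h2, h3⟩ := mem_V.1 (hK w ⟨w, hw, rfl⟩)
  exact h3

/-- the last two-step centralizer, in `Ω` -/
def C (h : MC S p n W) : Subgroup Ω := (h.Ksub (n - 2)).map S.subtype

theorem mem_C (h : MC S p n W) {x : Ω} : x ∈ C h ↔ x ∈ S ∧ ∀ a ∈ V W (n - 2), a * x = x * a := by
  constructor
  · rintro ⟨y, hy, rfl⟩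
    refine ⟨y.2, ?_⟩
    rintro _ ⟨w, hw, rfl⟩
    exact congrArg Subtype.val ((mem_Ksub_last h).1 hy w hw)
  · rintro ⟨hx, h1⟩
    refine ⟨⟨x, hx⟩, (mem_Ksub_last h).2 ?_, rfl⟩
    intro w hw
    exact Subtype.ext (h1 w ⟨w, hw, rfl⟩)

theorem V_center (h : MC S p n W) {z : Ω} (hz : z ∈ V W (n - 1)) {x : Ω} (hx : x ∈ S) :
    z * x = x * z := by
  obtain ⟨hz, hz'⟩ := mem_V.1 hz
  exact congrArg Subtype.val (h.center_le hz' ⟨x, hx⟩).eq

/-- abelian subgroups of order at least `p ^ 3` lie in `V 1` or in `C`. -/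
theorem le_or_le [Finite S] (h : MC S p n W) [hp : Fact p.Prime] (hp3 : 3 ≤ p) {E : Subgroup Ω}
    (hE : E ≤ S) (hab : ∀ x ∈ E, ∀ y ∈ E, x * y = y * x) (hc : p ^ 2 < Nat.card E) :
    E ≤ V W 1 ∨ E ≤ C h := by
  have hor : ∀ x ∈ E, x ∈ V W 1 ∨ x ∈ C h := by
    intro x hx
    by_contra hcon
    push Not at hcon
    obtain ⟨h1, h2⟩ := hcon
    have hx1 : (⟨x, hE hx⟩ : S) ∉ W 1 := fun hh => h1 ⟨_, hh, rfl⟩
    have hx2 : (⟨x, hE hx⟩ : S) ∉ h.Ksub (n - 2) := fun hh => h2 ⟨_, hh, rfl⟩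
    have h3 := h.card_centralizer_of_notMem hx1
      (fun i hi hi' => h.notMem_Ksub hp3 hx1 hx2 i hi hi')
    have h4 : E.subgroupOf S ≤ centralizer ({⟨x, hE hx⟩} : Set S) := by
      intro y hy
      rw [Subgroup.mem_centralizer_singleton_iff]
      exact Subtype.ext (hab y hy x hx)
    have h5 := Subgroup.card_le_of_le h4
    rw [h3, Nat.card_congr (Subgroup.subgroupOfEquivOfLe hE).toEquiv] at h5
    omega
  by_contra hcon
  push Not at hcon
  obtain ⟨h1, h2⟩ := hcon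
  obtain ⟨a, haE, ha⟩ := SetLike.not_le_iff_exists.1 h1
  obtain ⟨b, hbE, hb⟩ := SetLike.not_le_iff_exists.1 h2
  have ha2 := (hor a haE).resolve_left ha
  have hb1 := (hor b hbE).resolve_right hb
  rcases hor (a * b) (E.mul_mem haE hbE) with h3 | h3
  · exact ha ((Subgroup.mul_mem_cancel_right _ hb1).1 h3)
  · exact hb ((Subgroup.mul_mem_cancel_left _ ha2).1 h3)

theorem C_normal_or (h : MC S p n W) [hp : Fact p.Prime] [Finite S] :
    ∀ x ∈ V W 2, x ∈ C h := by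
  rintro _ ⟨x, hx, rfl⟩
  exact ⟨x, h.W2_le_Ksub _ hx, rfl⟩

/-- `V 1 ∩ C = V 2` in the exceptional case -/
theorem inf_eq [Finite S] (h : MC S p n W) [hp : Fact p.Prime] (hne : ¬ V W 1 ≤ C h) {x : Ω}
    (h1 : x ∈ V W 1) (h2 : x ∈ C h) : x ∈ V W 2 := by
  have h4 := h.four_le
  by_contra hcon
  apply hne
  obtain ⟨hxS, hx1⟩ := mem_V.1 h1
  have hx2 : (⟨x, hxS⟩ : S) ∉ W 2 := fun hh => hcon (mem_V.2 ⟨hxS, hh⟩)
  have hxC : (⟨x, hxS⟩ : S) ∈ h.Ksub (n - 2) := by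
    obtain ⟨y, hy, hyx⟩ := h2
    have : y = ⟨x, hxS⟩ := Subtype.ext hyx
    rwa [← this]
  rintro _ ⟨y, hy, rfl⟩
  obtain ⟨k, hk⟩ := h.exists_zpow (i := 1) (by omega) hx1 hx2 hy
  have e : y = (⟨x, hxS⟩ : S) ^ k * (((⟨x, hxS⟩ : S) ^ k)⁻¹ * y) := by group
  refine ⟨y, ?_, rfl⟩
  show y ∈ h.Ksub (n - 2)
  rw [e]
  exact (h.Ksub (n - 2)).mul_mem ((h.Ksub (n - 2)).zpow_mem hxC k) (h.W2_le_Ksub _ hk)

/-- `[c, S] = V (n - 1)` for `c ∈ V (n - 2) - V (n - 1)` -/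
theorem exists_conj_eq [Finite S] (h : MC S p n W) [hp : Fact p.Prime] {c z : Ω}
    (hc : c ∈ V W (n - 2)) (hc' : c ∉ V W (n - 1)) (hz : z ∈ V W (n - 1)) :
    ∃ s ∈ S, s * c * s⁻¹ = c * z := by
  have h4 := h.four_le
  obtain ⟨hcS, hcW⟩ := mem_V.1 hc
  obtain ⟨hzS, hzW⟩ := mem_V.1 hz
  have hcW' : (⟨c, hcS⟩ : S) ∉ W (n - 1) := fun hh => hc' (mem_V.2 ⟨hcS, hh⟩)
  have hcen : ∀ y z : S, Commute ⁅(⟨c, hcS⟩ : S), y⁆ z := by
    intro y z
    have h1 : ⁅(⟨c, hcS⟩ : S), y⁆ ∈ W (n - 1) := by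
      have := h.comm_mem (x := y) hcW
      rwa [show n - 2 + 1 = n - 1 by omega] at this
    exact h.center_le h1 z
  let f : S →* S := MonoidHom.mk' (fun y => ⁅(⟨c, hcS⟩ : S), y⁆) (by
    intro y z
    have e : ⁅(⟨c, hcS⟩ : S), y * z⁆ = ⁅(⟨c, hcS⟩ : S), y⁆ * (y * ⁅(⟨c, hcS⟩ : S), z⁆ * y⁻¹) := by
      simp only [commutatorElement_def]; group
    rw [e, ← (hcen z y).eq, mul_inv_cancel_right])
  have hr : f.range ≤ W (n - 1) := by
    rintro _ ⟨y, rfl⟩
    have := h.comm_mem (x := y) hcW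
    rwa [show n - 2 + 1 = n - 1 by omega] at this
  have hcard : Nat.card (W (n - 1)) = p := by
    have := h.card_W 1 (by omega)
    rwa [pow_one] at this
  have hne : f.range ≠ ⊥ := by
    intro hbot
    have hall : ∀ y, y ∈ h.Ksub (n - 2) := by
      intro y
      have h1 : f y ∈ f.range := ⟨y, rfl⟩
      rw [hbot, mem_bot] at h1
      have h2 : ⁅(⟨c, hcS⟩ : S), y⁆ = 1 := h1
      refine (h.mem_K_iff (i := n - 2) (by omega) hcW ?_ y).2 ?_
      · rwa [show n - 2 + 1 = n - 1 by omega]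
      · rw [h2]; exact one_mem _
    exact h.Ksub_ne_top' (i := n - 2) (by omega) (by omega) (eq_top_iff.2 fun y _ => hall y)
  have heq : f.range = W (n - 1) := by
    apply Subgroup.eq_of_le_of_card_ge hr
    rw [hcard]
    have h5 := Subgroup.card_dvd_of_le hr
    rw [hcard] at h5
    rcases (Nat.dvd_prime hp.out).1 h5 with h6 | h6
    · exact absurd (Subgroup.card_eq_one.1 h6) hne
    · exact h6.ge
  have h6 : ((⟨z, hzS⟩ : S))⁻¹ ∈ f.range := by
    rw [heq]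
    exact inv_mem hzW
  obtain ⟨y, hy⟩ := h6
  refine ⟨y, y.2, ?_⟩
  have h7 : ⁅(⟨c, hcS⟩ : S), y⁆ = (⟨z, hzS⟩ : S)⁻¹ := hy
  have h8 : c * (y : Ω) * c⁻¹ * (y : Ω)⁻¹ = z⁻¹ := congrArg Subtype.val h7
  have h9 : z * (c : Ω) = c * z := V_center h hz hcS
  calc (y : Ω) * c * (y : Ω)⁻¹ = (c * (y : Ω) * c⁻¹ * (y : Ω)⁻¹)⁻¹ * c := by group
    _ = z * c := by rw [h8, inv_inv]
    _ = c * z := h9

end Cfsg.Agent.H797.MaxOmega
end

-- part: H797/EssExt
section
/-!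
# Abelian essential subgroups with a transvection induced by `g ∈ S`: the normalizer and an involution on it
-/

set_option autoImplicit false
set_option linter.unusedSectionVars false

namespace Cfsg.Agent.H797.EssTv

open Cfsg Cfsg.FusionSystem Cfsg.Agent.H802 Cfsg.Agent.H766 Cfsg.Agent.H797.StrongTv

/-- In a `p`-group `R`, if `γ ≠ 1` generates its own centralizer then it generates `R`. -/
theorem all_mem_of_centralizer {A : Type*} [Group A] {p : ℕ} [hp : Fact p.Prime] {R : Subgroup A}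
    [Finite R] (hR : IsPGroup p R) {γ : A} (hγR : γ ∈ R) (hγp : γ ^ p = 1) (hγ1 : γ ≠ 1)
    (h : ∀ x ∈ R, γ * x = x * γ → ∃ k : ℤ, γ ^ k = x) : ∀ x ∈ R, ∃ k : ℤ, γ ^ k = x := by
  have hnt : Nontrivial R := ⟨⟨⟨γ, hγR⟩, 1, fun hh => hγ1 (congrArg Subtype.val hh)⟩⟩
  obtain ⟨ζ, hζ, hζ1⟩ : ∃ ζ : R, ζ ∈ Subgroup.center R ∧ ζ ≠ 1 := by
    have := hR.center_nontrivial
    obtain ⟨ζ, hζ⟩ := exists_ne (1 : Subgroup.center R)
    exact ⟨ζ, ζ.2, fun hh => hζ (Subtype.ext hh)⟩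
  have hζc : ∀ x ∈ R, (ζ : A) * x = x * ζ := by
    intro x hx
    have := Subgroup.mem_center_iff.1 hζ ⟨x, hx⟩
    exact (congrArg Subtype.val this).symm
  obtain ⟨k, hk⟩ := h ζ ζ.2 (hζc γ hγR).symm
  -- γ is a power of ζ
  have hnd : ¬ (p : ℤ) ∣ k := by
    rintro ⟨m, rfl⟩
    apply hζ1
    apply Subtype.ext
    rw [← hk, zpow_mul, zpow_natCast, hγp, one_zpow]
    rfl
  have hco : IsCoprime k (p : ℤ) := by
    rw [isCoprime_comm, Prime.coprime_iff_not_dvd (Nat.prime_iff_prime_int.1 hp.out)]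
    exact hnd
  obtain ⟨u, v, huv⟩ := hco
  have hγζ : γ = (ζ : A) ^ u := by
    have e : γ = γ ^ (u * k + v * p) := by rw [huv, zpow_one]
    rw [zpow_add, mul_comm v, zpow_mul γ (p : ℤ) v, zpow_natCast, hγp, one_zpow, mul_one, mul_comm u,
      zpow_mul, hk] at e
    exact e
  intro x hx
  apply h x hx
  rw [hγζ]
  have : Commute (ζ : A) x := hζc x hx
  exact this.zpow_left u

variable {Ω : Type*} [Group Ω] {S : Subgroup Ω}

theorem ess_ext {p : ℕ} [hp : Fact p.Prime] (hp3 : 3 ≤ p) [Finite S] (hS : IsPGroup p S)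
    {F : FusionSystem S} (hF : F.IsSaturated p)
    {E : Subgroup Ω} (hE : F.IsEssential p E) (hab : ∀ x y : E, x * y = y * x)
    (hexp : ∀ x : E, x ^ p = 1) {g : Ω} (hgS : g ∈ S) (hgn : g ∈ Subgroup.normalizer (E : Set Ω))
    {v₀ : Ω} (hv₀E : v₀ ∈ E) (hv₀ : g * v₀ * g⁻¹ ≠ v₀)
    (hgen : ∀ v ∈ E, ∃ k : ℕ, g * (v * (v₀ ^ k)⁻¹) * g⁻¹ = v * (v₀ ^ k)⁻¹)
    (hz2 : ∀ v ∈ E, g * (g * v * g⁻¹ * v⁻¹) * g⁻¹ = g * v * g⁻¹ * v⁻¹) :
    (∀ x ∈ normalizerIn S E, ∃ k : ℤ, ∃ e ∈ E, x = g ^ k * e) ∧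
    Nat.card (normalizerIn S E) = p * Nat.card E ∧
    ∃ u : MulAut (normalizerIn S E), u ∈ F.autGroup (normalizerIn S E) ∧ u * u = 1 ∧
      (∀ x : normalizerIn S E, (x : Ω) ∈ E → ((u x : normalizerIn S E) : Ω) ∈ E) ∧
      (∀ x : normalizerIn S E, (u x : Ω) * (x : Ω)⁻¹ ∈ E) ∧
      (∀ v ∈ E, ∀ x : normalizerIn S E, (x : Ω) = g * v * g⁻¹ * v⁻¹ → (u x : Ω) = (x : Ω)⁻¹) ∧
      (∀ x : normalizerIn S E, (x : Ω) ∈ E → g * ((u x : Ω) * x) * g⁻¹ = (u x : Ω) * x) ∧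
      (∀ x : normalizerIn S E, (x : Ω) ∈ E → g * (x : Ω) * g⁻¹ = x →
        ∃ k : ℕ, (u x : Ω) = x * (g * v₀ * g⁻¹ * v₀⁻¹) ^ k) := by
  have hle := ess_le hE
  have hfE : Finite E := finite_of_le hle
  have hcent := ess_centralizerIn_le hE
  obtain ⟨γ, hγe⟩ := exists_conjAut hgn
  have hγS : γ ∈ autInducedBy S E := (mem_autInducedBy_iff S E γ).2 ⟨g, hgS, hγe⟩
  have hγF : γ ∈ F.autGroup E := autInducedBy_le_autGroup F hle hγS
  have hp1 := isPGroup_autInducedBy hS E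
  have hγ1 : γ ≠ 1 := by
    rintro rfl
    apply hv₀
    have := hγe ⟨v₀, hv₀E⟩
    exact this.symm
  have hγpw : ∃ k, γ ^ p ^ k = 1 := by
    obtain ⟨k, hk⟩ := hp1 ⟨γ, hγS⟩
    exact ⟨k, congrArg Subtype.val hk⟩
  have hγgen : ∀ v : E, ∃ k : ℕ, γ (v * ((⟨v₀, hv₀E⟩ : E) ^ k)⁻¹) = v * ((⟨v₀, hv₀E⟩ : E) ^ k)⁻¹ := by
    intro v
    obtain ⟨k, hk⟩ := hgen v v.2
    refine ⟨k, Subtype.ext ?_⟩
    rw [hγe]
    exact hk
  have hγz2 : ∀ v : E, γ (γ v * v⁻¹) = γ v * v⁻¹ := by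
    intro v
    apply Subtype.ext
    rw [hγe]
    show g * ((γ v : Ω) * (v : Ω)⁻¹) * g⁻¹ = (γ v : Ω) * (v : Ω)⁻¹
    rw [hγe]
    exact hz2 v v.2
  have hγv₀ : γ ⟨v₀, hv₀E⟩ ≠ ⟨v₀, hv₀E⟩ := by
    intro h
    apply hv₀
    have := congrArg Subtype.val h
    rwa [hγe] at this
  -- γ ^ p = 1
  have hγp : γ ^ p = 1 := by
    have hpow : ∀ (n : ℕ) (v : E), (γ ^ n) v = (γ v * v⁻¹) ^ n * v := by
      intro n
      induction n with
      | zero => intro v; simp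
      | succ n ih =>
        intro v
        rw [pow_succ', MulAut.mul_apply, ih, map_mul, map_pow, hγz2, pow_succ, mul_assoc, mul_assoc]
        congr 1
        group
    apply MulEquiv.ext
    intro v
    rw [hpow, hexp, one_mul]
    rfl
  obtain ⟨h1, t, htF, htt, htγ, ht3, ht4, ht5⟩ := ess_tv hE hab hexp hγF hγpw ⟨v₀, hv₀E⟩ hγv₀ hγgen hγz2
  have hall : ∀ x ∈ autInducedBy S E, ∃ k : ℤ, γ ^ k = x := by
    apply all_mem_of_centralizer hp1 hγS hγp hγ1
    intro x hx hγx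
    obtain ⟨k, hk⟩ := hp1 ⟨x, hx⟩
    exact h1 x (autInducedBy_le_autGroup F hle hx) ⟨k, congrArg Subtype.val hk⟩ hγx
  have hγk : ∀ (k : ℤ) (v : E), (((γ ^ k) v : E) : Ω) = g ^ k * v * (g ^ k)⁻¹ := by
    have hnat : ∀ (k : ℕ) (v : E), (((γ ^ k) v : E) : Ω) = g ^ k * v * (g ^ k)⁻¹ := by
      intro k
      induction k with
      | zero => intro v; simp
      | succ k ih =>
        intro v
        rw [pow_succ', MulAut.mul_apply, hγe, ih, pow_succ']
        group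
    intro k v
    obtain ⟨n, rfl | rfl⟩ := k.eq_nat_or_neg
    · rw [zpow_natCast, zpow_natCast]
      exact hnat n v
    · rw [zpow_neg, zpow_natCast, zpow_neg, zpow_natCast]
      have h2 := hnat n ((γ ^ n)⁻¹ v)
      rw [MulAut.apply_inv_self] at h2
      rw [h2]
      group
  have hN : ∀ x ∈ normalizerIn S E, ∃ k : ℤ, ∃ e ∈ E, x = g ^ k * e := by
    intro x hx
    obtain ⟨α, hα⟩ := exists_conjAut hx.2
    obtain ⟨k, hk⟩ := hall α ((mem_autInducedBy_iff S E α).2 ⟨x, hx.1, hα⟩)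
    refine ⟨k, (g ^ k)⁻¹ * x, ?_, by group⟩
    apply hcent
    refine Subgroup.mem_inf.2 ⟨S.mul_mem (S.inv_mem (S.zpow_mem hgS k)) hx.1, ?_⟩
    rw [Subgroup.mem_centralizer_iff]
    intro v hv
    have e1 := hγk k ⟨v, hv⟩
    have e2 := hα ⟨v, hv⟩
    rw [hk] at e1
    have e3 : g ^ k * v * (g ^ k)⁻¹ = x * v * x⁻¹ := e1.symm.trans e2
    calc v * ((g ^ k)⁻¹ * x) = (g ^ k)⁻¹ * (g ^ k * v * (g ^ k)⁻¹) * x := by group
      _ = (g ^ k)⁻¹ * (x * v * x⁻¹) * x := by rw [e3]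
      _ = (g ^ k)⁻¹ * x * v := by group
  have hcardN : Nat.card (normalizerIn S E) = p * Nat.card E := by
    rw [← card_autInducedBy_mul S E]
    have e1 : Nat.card (autInducedBy S E) = p := by
      have e2 : autInducedBy S E = Subgroup.zpowers γ := by
        apply le_antisymm
        · intro x hx
          obtain ⟨k, hk⟩ := hall x hx
          exact ⟨k, hk⟩
        · rw [Subgroup.zpowers_le]
          exact hγS
      rw [e2, Nat.card_zpowers]
      exact orderOf_eq_prime hγp hγ1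
    have e2 : centralizerIn S E = E := by
      apply le_antisymm hcent
      refine le_inf hle ?_
      intro x hx
      rw [Subgroup.mem_centralizer_iff]
      intro y hy
      exact congrArg Subtype.val (hab ⟨y, hy⟩ ⟨x, hx⟩)
    rw [e1, e2]
  refine ⟨hN, hcardN, ?_⟩
  -- extension
  have hEN : E ≤ normalizerIn S E := le_normalizerIn hle
  have hfN : Finite (normalizerIn S E) := finite_of_le inf_le_left
  have hrec := isReceptive_of_isFullyNormalized hS hF (ess_normalizedIn hE)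
  have hφ := (mem_autGroup_iff F hle t).1 htF
  have hφr : (E.subtype.comp t.toMonoidHom).range = E := by
    apply range_eq_of_mapsTo hφ
    intro x
    exact (t x).2
  obtain ⟨ψ', hψ', hψ'e⟩ := hrec.2 E _ hφ hφr
  have hext : normalizerIn S E ≤ extender S E (E.subtype.comp t.toMonoidHom) := by
    intro x hx
    rw [mem_extender_iff]
    refine ⟨hx.1, hx.2, x, hx.1, fun v hv => ?_⟩
    obtain ⟨α, hα⟩ := exists_conjAut hx.2
    obtain ⟨k, hk⟩ := hall α ((mem_autInducedBy_iff S E α).2 ⟨x, hx.1, hα⟩)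
    have e1 : t * α = α * t := by
      rw [← hk]
      have : Commute t γ := htγ
      exact (this.zpow_right k)
    have e2 : (⟨x * (v : Ω) * x⁻¹, hv⟩ : E) = α v := Subtype.ext (hα v).symm
    show ((t ⟨x * (v : Ω) * x⁻¹, hv⟩ : E) : Ω) = x * (t v : Ω) * x⁻¹
    rw [e2, ← MulAut.mul_apply, e1, MulAut.mul_apply, hα]
  obtain ⟨ψ, hψdef⟩ : ∃ ψ : normalizerIn S E →* Ω, ψ = ψ'.comp (Subgroup.inclusion hext) := ⟨_, rfl⟩
  have hψ : ψ ∈ F.Hom (normalizerIn S E) := by rw [hψdef]; exact restrict_mem hψ' hext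
  have hψe : ∀ (x : Ω) (hx : x ∈ E), ψ ⟨x, hEN hx⟩ = (E.subtype.comp t.toMonoidHom) ⟨x, hx⟩ := by
    intro x hx
    rw [hψdef]
    exact hψ'e x hx (hext (hEN hx))
  have hψN : ∀ x : normalizerIn S E, ψ x ∈ normalizerIn S E :=
    fun x => apply_mem_normalizerIn hψ hEN inf_le_right hφr hψe x
  have hψr : ψ.range = normalizerIn S E := range_eq_of_mapsTo hψ hψN
  obtain ⟨α, hαF, hα⟩ := exists_aut hψ hψr
  -- α on E is t
  have hαE : ∀ (x : Ω) (hx : x ∈ E), (α ⟨x, hEN hx⟩ : Ω) = t ⟨x, hx⟩ := by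
    intro x hx
    rw [hα, hψe x hx]
    rfl
  have hαE' : ∀ x : normalizerIn S E, (x : Ω) ∈ E → (α x : Ω) ∈ E := by
    intro x hx
    have := hαE x hx
    have e : (⟨(x : Ω), hEN hx⟩ : normalizerIn S E) = x := rfl
    rw [e] at this
    rw [this]
    exact (t _).2
  -- α acts trivially on N / E
  have hαN : ∀ x : normalizerIn S E, (α x : Ω) * (x : Ω)⁻¹ ∈ E := by
    intro x
    have h2 : (x : Ω)⁻¹ * (α x : Ω) ∈ E := by
      apply hcent
      refine Subgroup.mem_inf.2 ⟨S.mul_mem (S.inv_mem x.2.1) (α x).2.1, ?_⟩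
      rw [Subgroup.mem_centralizer_iff]
      intro w hw
      -- w = t v
      obtain ⟨v, hv⟩ : ∃ v : E, t v = ⟨w, hw⟩ := t.surjective _
      have hxv : (x : Ω) * (v : Ω) * (x : Ω)⁻¹ ∈ E := (Subgroup.mem_normalizer_iff.1 x.2.2 _).1 v.2
      obtain ⟨β, hβ⟩ := exists_conjAut x.2.2
      obtain ⟨k, hk⟩ := hall β ((mem_autInducedBy_iff S E β).2 ⟨x, x.2.1, hβ⟩)
      have e1 : t * β = β * t := by
        rw [← hk]
        have : Commute t γ := htγ
        exact (this.zpow_right k)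
      have e2 : ((t (β v) : E) : Ω) = (x : Ω) * w * (x : Ω)⁻¹ := by
        rw [← MulAut.mul_apply, e1, MulAut.mul_apply, hβ, hv]
      have e3 : (α (x * ⟨(v : Ω), hEN v.2⟩ * x⁻¹) : Ω) = ((t (β v) : E) : Ω) := by
        have e4 : (x * ⟨(v : Ω), hEN v.2⟩ * x⁻¹ : normalizerIn S E) =
            ⟨((β v : E) : Ω), hEN (β v).2⟩ := Subtype.ext (hβ v).symm
        rw [e4, hαE]
      rw [map_mul, map_mul, map_inv] at e3
      have e5 : ((α ⟨(v : Ω), hEN v.2⟩ : normalizerIn S E) : Ω) = w := by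
        rw [hαE _ v.2]
        exact congrArg Subtype.val hv
      have e6 : (α x : Ω) * w * (α x : Ω)⁻¹ = (x : Ω) * w * (x : Ω)⁻¹ := by
        rw [← e2, ← e3]
        have e7 : ((α x * α ⟨(v : Ω), hEN v.2⟩ * (α x)⁻¹ : normalizerIn S E) : Ω) =
          (α x : Ω) * (α ⟨(v : Ω), hEN v.2⟩ : Ω) * (α x : Ω)⁻¹ := rfl
        rw [e7, e5]
      calc w * ((x : Ω)⁻¹ * (α x : Ω)) = (x : Ω)⁻¹ * ((x : Ω) * w * (x : Ω)⁻¹) * (α x : Ω) := by group
        _ = (x : Ω)⁻¹ * ((α x : Ω) * w * (α x : Ω)⁻¹) * (α x : Ω) := by rw [e6]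
        _ = (x : Ω)⁻¹ * (α x : Ω) * w := by group
    have h3 := (Subgroup.mem_normalizer_iff.1 x.2.2 _).1 h2
    have e : (x : Ω) * ((x : Ω)⁻¹ * (α x : Ω)) * (x : Ω)⁻¹ = (α x : Ω) * (x : Ω)⁻¹ := by group
    rwa [e] at h3
  -- α² is trivial on E, and so of order dividing p
  have hα2E : ∀ x : normalizerIn S E, (x : Ω) ∈ E → α (α x) = x := by
    intro x hx
    apply Subtype.ext
    have e1 : (α x : Ω) = t ⟨x, hx⟩ := hαE x hx
    have e2 : α x = ⟨((t ⟨x, hx⟩ : E) : Ω), hEN (t _).2⟩ := Subtype.ext e1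
    rw [e2, hαE _ (t ⟨x, hx⟩).2]
    have e3 : t (t ⟨x, hx⟩) = ⟨x, hx⟩ := by rw [← MulAut.mul_apply, htt]; rfl
    rw [e3]
  have hα2N : ∀ x : normalizerIn S E, ((α * α) x : Ω) * (x : Ω)⁻¹ ∈ E := by
    intro x
    have h2 := E.mul_mem (hαN (α x)) (hαN x)
    have e : (α (α x) : Ω) * (α x : Ω)⁻¹ * ((α x : Ω) * (x : Ω)⁻¹) = ((α * α) x : Ω) * (x : Ω)⁻¹ := by
      rw [MulAut.mul_apply]; group
    rwa [e] at h2
  have hα2p : (α * α) ^ p = 1 := by
    have hpow : ∀ (n : ℕ) (x : normalizerIn S E),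
        ((α * α) ^ n) x = ((α * α) x * x⁻¹) ^ n * x := by
      intro n
      induction n with
      | zero => intro x; simp
      | succ n ih =>
        intro x
        have e1 : (α * α) ((α * α) x * x⁻¹) = (α * α) x * x⁻¹ := hα2E _ (hα2N x)
        have e2 : ((α * α) ^ (n + 1)) x = (α * α) (((α * α) ^ n) x) := by rw [pow_succ']; rfl
        rw [e2, ih, map_mul, map_pow, e1, pow_succ, mul_assoc, mul_assoc, inv_mul_cancel, mul_one]
    apply MulEquiv.ext
    intro x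
    rw [hpow]
    have e1 : ((α * α) x * x⁻¹) ^ p = 1 := by
      apply Subtype.ext
      have := hexp ⟨_, hα2N x⟩
      have := congrArg Subtype.val this
      exact this
    rw [e1, one_mul]
    rfl
  have hodd : Odd p := hp.out.odd_of_ne_two (by omega)
  -- powers of α
  have hpowE : ∀ (n : ℕ) (x : normalizerIn S E), (x : Ω) ∈ E → ((α ^ n) x : Ω) ∈ E := by
    intro n
    induction n with
    | zero => intro x hx; simpa using hx
    | succ n ih =>
      intro x hx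
      rw [pow_succ', MulAut.mul_apply]
      exact hαE' _ (ih x hx)
  have hpowN : ∀ (n : ℕ) (x : normalizerIn S E), ((α ^ n) x : Ω) * (x : Ω)⁻¹ ∈ E := by
    intro n
    induction n with
    | zero =>
      intro x
      have e : (((α ^ 0) x : normalizerIn S E) : Ω) * (x : Ω)⁻¹ = 1 := by simp
      rw [e]
      exact E.one_mem
    | succ n ih =>
      intro x
      have h2 := E.mul_mem (hαN ((α ^ n) x)) (ih x)
      have e : (α ((α ^ n) x) : Ω) * ((α ^ n) x : Ω)⁻¹ * (((α ^ n) x : Ω) * (x : Ω)⁻¹) =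
          ((α ^ (n + 1)) x : Ω) * (x : Ω)⁻¹ := by
        rw [pow_succ', MulAut.mul_apply]; group
      rwa [e] at h2
  have hpE : ∀ x : normalizerIn S E, (x : Ω) ∈ E → (α ^ p) x = α x := by
    intro x hx
    obtain ⟨m, hm⟩ := hodd
    have e1 : ∀ m : ℕ, (α ^ (2 * m)) x = x := by
      intro m
      induction m with
      | zero => rfl
      | succ m ih =>
        have e2 : α ^ (2 * (m + 1)) = (α * α) * α ^ (2 * m) := by
          rw [show 2 * (m + 1) = 2 + 2 * m by ring, pow_add, pow_two]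
        rw [e2, MulAut.mul_apply, ih]
        exact hα2E x hx
    rw [hm, pow_succ', MulAut.mul_apply, e1]
  refine ⟨α ^ p, Subgroup.pow_mem _ hαF p, ?_, ?_, ?_, ?_, ?_, ?_⟩
  · rw [← (Commute.refl α).mul_pow]
    exact hα2p
  · intro x hx
    exact hpowE p x hx
  · intro x
    exact hpowN p x
  · intro v hv x hx
    have hxE : (x : Ω) ∈ E := by
      rw [hx]
      exact E.mul_mem ((Subgroup.mem_normalizer_iff.1 hgn _).1 hv) (E.inv_mem hv)
    rw [hpE x hxE]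
    have e1 := hαE x hxE
    have e2 : (⟨(x : Ω), hxE⟩ : E) = γ ⟨v, hv⟩ * (⟨v, hv⟩ : E)⁻¹ := by
      apply Subtype.ext
      show (x : Ω) = (γ ⟨v, hv⟩ : Ω) * v⁻¹
      rw [hγe, hx]
    have e3 : (α x : Ω) = t ⟨x, hxE⟩ := e1
    rw [e3, e2, ht3, ← e2]
    rfl
  · intro x hx
    rw [hpE x hx]
    have e3 : (α x : Ω) = t ⟨x, hx⟩ := hαE x hx
    rw [e3]
    have e4 := ht4 ⟨x, hx⟩
    have e5 := congrArg Subtype.val e4
    rw [hγe] at e5
    exact e5
  · intro x hx hgx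
    rw [hpE x hx]
    have e3 : (α x : Ω) = t ⟨x, hx⟩ := hαE x hx
    obtain ⟨k, hk⟩ := ht5 ⟨x, hx⟩ (Subtype.ext (by rw [hγe]; exact hgx))
    refine ⟨k, ?_⟩
    rw [e3, hk]
    show (x : Ω) * (((γ ⟨v₀, hv₀E⟩ * (⟨v₀, hv₀E⟩ : E)⁻¹) ^ k : E) : Ω) = _
    rw [Subgroup.coe_pow, Subgroup.coe_mul, hγe]
    rfl

end Cfsg.Agent.H797.EssTv
end

-- part: H797/StabExt
section
/-!
# Extending automorphisms preserving a chain stabilized by `S`
-/

set_option autoImplicit false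
set_option linter.unusedSectionVars false

namespace Cfsg.Agent.H797.StabExt

open Cfsg Cfsg.FusionSystem Cfsg.Agent.H802

/-- `α` preserves the chain `c 0, …, c m` and acts trivially on its factors. -/
def Stab {R : Type*} [Group R] (c : ℕ → Subgroup R) (m : ℕ) (α : MulAut R) : Prop :=
  (∀ i ≤ m, ∀ x, α x ∈ c i ↔ x ∈ c i) ∧ ∀ i < m, ∀ x ∈ c i, x⁻¹ * α x ∈ c (i + 1)

/-- The stability group. -/
def stabGroup {R : Type*} [Group R] (c : ℕ → Subgroup R) (m : ℕ) : Subgroup (MulAut R) where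
  carrier := {α | Stab c m α}
  one_mem' := by
    refine ⟨fun i _ x => Iff.rfl, fun i _ x _ => ?_⟩
    show x⁻¹ * x ∈ c (i + 1)
    rw [inv_mul_cancel]
    exact Subgroup.one_mem _
  mul_mem' := by
    rintro a b ⟨ha1, ha2⟩ ⟨hb1, hb2⟩
    refine ⟨fun i hi x => ?_, fun i hi x hx => ?_⟩
    · rw [MulAut.mul_apply, ha1 i hi, hb1 i hi]
    · have e : x⁻¹ * (a * b) x = (x⁻¹ * b x) * ((b x)⁻¹ * a (b x)) := by
        rw [MulAut.mul_apply]; group
      rw [e]
      exact Subgroup.mul_mem _ (hb2 i hi x hx) (ha2 i hi _ ((hb1 i hi.le x).2 hx))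
  inv_mem' := by
    rintro a ⟨ha1, ha2⟩
    have h1 : ∀ i ≤ m, ∀ x, a⁻¹ x ∈ c i ↔ x ∈ c i := by
      intro i hi x
      rw [← ha1 i hi, MulAut.apply_inv_self]
    refine ⟨h1, fun i hi x hx => ?_⟩
    have e := ha2 i hi (a⁻¹ x) ((h1 i hi.le x).2 hx)
    rw [MulAut.apply_inv_self] at e
    have e3 := (c (i + 1)).inv_mem e
    have e4 : ((a⁻¹ x)⁻¹ * x)⁻¹ = x⁻¹ * a⁻¹ x := by group
    rwa [e4] at e3

theorem isPGroup_stabGroup {R : Type*} [Group R] [Finite R] {p : ℕ} [Fact p.Prime]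
    (hR : IsPGroup p R) (c : ℕ → Subgroup R) (m : ℕ) (h0 : c 0 = ⊤) (hm : c m = ⊥) :
    IsPGroup p (stabGroup c m) := by
  rintro ⟨α, hα1, hα2⟩
  obtain ⟨k, hk⟩ := Cfsg.Agent.H759.exists_pow_eq_one_of_chain hR α m c h0 hm
    (fun i hi x hx => (hα1 i hi x).2 hx) hα2
  exact ⟨k, Subtype.ext hk⟩

variable {Ω : Type*} [Group Ω] {S : Subgroup Ω}

theorem exists_ext {p : ℕ} [hp : Fact p.Prime] [Finite S] (hS : IsPGroup p S)
    {F : FusionSystem S} (hF : F.IsSaturated p) {Q : Subgroup Ω} (hQ : F.IsFullyNormalized Q)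
    (c : ℕ → Subgroup Q) (m : ℕ) (h0 : c 0 = ⊤) (hm : c m = ⊥)
    (hc : ∀ α ∈ autInducedBy S Q, Stab c m α) {τ : MulAut Q} (hτ : τ ∈ F.autGroup Q)
    (hτc : ∀ i ≤ m, ∀ x, τ x ∈ c i ↔ x ∈ c i) :
    ∃ ψ ∈ F.Hom (normalizerIn S Q), ∀ (x : Ω) (hx : x ∈ Q) (hx' : x ∈ normalizerIn S Q),
      ψ ⟨x, hx'⟩ = (τ ⟨x, hx⟩ : Q) := by
  have hQS : Q ≤ S := hQ.1
  have hfQ : Finite Q := finite_of_le hQS
  have hQp : IsPGroup p Q := hS.to_le hQS
  obtain ⟨-, R₀, hR₀⟩ := isFullyAutomized_of_isFullyNormalized hS hF hQ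
  have hrec := isReceptive_of_isFullyNormalized hS hF hQ
  have hΓ : IsPGroup p ((stabGroup c m).subgroupOf (F.autGroup Q)) :=
    (isPGroup_stabGroup hQp c m h0 hm).comap_subtype
  have hle : (R₀ : Subgroup (F.autGroup Q)) ≤ (stabGroup c m).subgroupOf (F.autGroup Q) := by
    rw [hR₀]
    intro α hα
    exact hc α hα
  have heq : (stabGroup c m).subgroupOf (F.autGroup Q) = R₀ := R₀.3 hΓ hle
  have hτinv : ∀ i ≤ m, ∀ x, τ⁻¹ x ∈ c i ↔ x ∈ c i := by
    intro i hi x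
    rw [← hτc i hi, MulAut.apply_inv_self]
  -- τ normalizes Aut_S(Q)
  have hnorm : ∀ α ∈ autInducedBy S Q, τ * α * τ⁻¹ ∈ autInducedBy S Q := by
    intro α hα
    obtain ⟨h1, h2⟩ := hc α hα
    have hst : Stab c m (τ * α * τ⁻¹) := by
      refine ⟨fun i hi x => ?_, fun i hi x hx => ?_⟩
      · rw [MulAut.mul_apply, MulAut.mul_apply, hτc i hi, h1 i hi, hτinv i hi]
      · have h3 := h2 i hi (τ⁻¹ x) ((hτinv i hi.le x).2 hx)
        rw [← hτc (i + 1) (by omega), map_mul, map_inv, MulAut.apply_inv_self] at h3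
        exact h3
    have hmem : (⟨τ * α * τ⁻¹, (F.autGroup Q).mul_mem ((F.autGroup Q).mul_mem hτ
        (autInducedBy_le_autGroup F hQS hα)) ((F.autGroup Q).inv_mem hτ)⟩ : F.autGroup Q) ∈
        (stabGroup c m).subgroupOf (F.autGroup Q) := hst
    rw [heq, hR₀] at hmem
    exact hmem
  have hφ := (mem_autGroup_iff F hQS τ).1 hτ
  have hφr : (Q.subtype.comp τ.toMonoidHom).range = Q := by
    apply range_eq_of_mapsTo hφ
    intro x
    exact (τ x).2
  obtain ⟨ψ', hψ', hψ'e⟩ := hrec.2 Q _ hφ hφr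
  have hext : normalizerIn S Q ≤ extender S Q (Q.subtype.comp τ.toMonoidHom) := by
    intro x hx
    obtain ⟨α, hα⟩ := exists_conjAut hx.2
    have h1 := hnorm α ((mem_autInducedBy_iff S Q α).2 ⟨x, hx.1, hα⟩)
    obtain ⟨h, hhS, hh⟩ := (mem_autInducedBy_iff S Q _).1 h1
    rw [mem_extender_iff]
    refine ⟨hx.1, hx.2, h, hhS, fun v hv => ?_⟩
    have e2 : (⟨x * (v : Ω) * x⁻¹, hv⟩ : Q) = α v := Subtype.ext (hα v).symm
    show ((τ ⟨x * (v : Ω) * x⁻¹, hv⟩ : Q) : Ω) = h * (τ v : Ω) * h⁻¹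
    rw [e2, ← hh (τ v), MulAut.mul_apply, MulAut.mul_apply, MulAut.inv_apply_self]
  refine ⟨ψ'.comp (Subgroup.inclusion hext), restrict_mem hψ' hext, ?_⟩
  intro x hx hx'
  exact hψ'e x hx (hext hx')

end Cfsg.Agent.H797.StabExt
end

-- part: H797/MaxEss
section
/-!
# Elementary abelian essential subgroups of order `p³` in groups of maximal class: the involution on `Z_3(S)`
-/

set_option autoImplicit false
set_option linter.unusedSectionVars false

namespace Cfsg.Agent.H797.MaxEss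

open Cfsg Cfsg.FusionSystem Cfsg.Agent.H802 Cfsg.Agent.H766 Cfsg.Agent.H467.MaxClass
open Cfsg.Agent.H797.MaxOmega Cfsg.Agent.H797.EssTv
open scoped commutatorElement

universe u

variable {Ω : Type u} [Group Ω] {S : Subgroup Ω}

theorem card_mul_relIndex {A B : Subgroup Ω} (h : A ≤ B) :
    Nat.card A * A.relIndex B = Nat.card B := by
  have h3 := Subgroup.relIndex_mul_relIndex ⊥ A B bot_le h
  rwa [Subgroup.relIndex_bot_left, Subgroup.relIndex_bot_left] at h3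

theorem exists_pow_of_relIndex {p : ℕ} [hp : Fact p.Prime] {A E : Subgroup Ω}
    (hidx : A.relIndex E = p) (hn : ∀ x ∈ E, ∀ a ∈ A, x * a * x⁻¹ ∈ A) {v₀ : Ω} (hv₀ : v₀ ∈ E)
    (hv₀A : v₀ ∉ A) : ∀ v ∈ E, ∃ k : ℕ, v * (v₀ ^ k)⁻¹ ∈ A := by
  intro v hv
  have hnorm : (A.subgroupOf E).Normal := by
    refine ⟨fun a ha x => ?_⟩
    rw [Subgroup.mem_subgroupOf] at ha ⊢
    exact hn x x.2 a ha
  have hcard : Nat.card (E ⧸ A.subgroupOf E) = p := hidx
  have hq : (QuotientGroup.mk' (A.subgroupOf E)) ⟨v₀, hv₀⟩ ≠ 1 := by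
    intro h
    rw [QuotientGroup.mk'_apply, QuotientGroup.eq_one_iff, Subgroup.mem_subgroupOf] at h
    exact hv₀A h
  have hfin : Finite (E ⧸ A.subgroupOf E) :=
    Nat.finite_of_card_ne_zero (by rw [hcard]; exact hp.out.ne_zero)
  have h2 : (QuotientGroup.mk' (A.subgroupOf E)) ⟨v, hv⟩ ∈
      Submonoid.powers ((QuotientGroup.mk' (A.subgroupOf E)) ⟨v₀, hv₀⟩) :=
    mem_powers_of_prime_card (p := p) hcard hq
  obtain ⟨k, hk⟩ := h2
  refine ⟨k, ?_⟩
  have h3 : (QuotientGroup.mk' (A.subgroupOf E)) (⟨v, hv⟩ * ((⟨v₀, hv₀⟩ : E) ^ k)⁻¹) = 1 := by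
    rw [map_mul, map_inv, map_pow]
    have hk' : (QuotientGroup.mk' (A.subgroupOf E)) ⟨v₀, hv₀⟩ ^ k =
      (QuotientGroup.mk' (A.subgroupOf E)) ⟨v, hv⟩ := hk
    rw [hk', mul_inv_cancel]
  rw [QuotientGroup.mk'_apply, QuotientGroup.eq_one_iff, Subgroup.mem_subgroupOf] at h3
  exact h3

theorem trivial_section {p : ℕ} [hp : Fact p.Prime] [Finite S] (hS : IsPGroup p S)
    {L K : Subgroup Ω} (hK : K ≤ S) {m : Ω} (hm : m ∈ S)
    (hL : ∀ x ∈ L, m * x * m⁻¹ ∈ L) (hK' : ∀ x ∈ K, m * x * m⁻¹ ∈ K) (hidx : L.relIndex K = p) :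
    ∀ x ∈ K, x⁻¹ * (m * x * m⁻¹) ∈ L := by
  intro x hx
  obtain ⟨k, hk⟩ := hS ⟨m, hm⟩
  have h1 := pAut_trivial_section (p := p) (MulAut.conj (⟨m, hm⟩ : S)) (k := k)
    (by rw [← map_pow, hk, map_one]) (L := L.subgroupOf S) (K := K.subgroupOf S)
    (fun y hy => hL y hy) (fun y hy => hK' y hy)
    (Or.inr (by rw [Subgroup.relIndex_subgroupOf hK]; exact hidx)) ⟨x, hK hx⟩ hx
  exact h1

variable {p n : ℕ} {W : ℕ → Subgroup S}

/-- The involution on `Z_3(S) = V (n - 3)`. -/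
theorem exists_tau [Finite S] (hS : IsPGroup p S) (h : MC S p n W) [hp : Fact p.Prime] (hp3 : 3 ≤ p)
    (hn : 5 ≤ n) {F : FusionSystem S} (hF : F.IsSaturated p) {E : Subgroup Ω}
    (hE : F.IsEssential p E) (hab : ∀ x ∈ E, ∀ y ∈ E, x * y = y * x) (hexp : ∀ x ∈ E, x ^ p = 1)
    (hcard : Nat.card E = p ^ 3) (hZN : V W (n - 3) ≤ normalizerIn S E) {g : Ω}
    (hgZ : g ∈ V W (n - 3)) {v₀ : Ω} (hv₀E : v₀ ∈ E) (hv₀ : g * v₀ * g⁻¹ ≠ v₀)
    (hgen : ∀ v ∈ E, ∃ k : ℕ, g * (v * (v₀ ^ k)⁻¹) * g⁻¹ = v * (v₀ ^ k)⁻¹)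
    (hz2 : ∀ v ∈ E, g * (g * v * g⁻¹ * v⁻¹) * g⁻¹ = g * v * g⁻¹ * v⁻¹) :
    Nat.card (normalizerIn S E) = p ^ 4 ∧
    (∀ x ∈ normalizerIn S E, ∃ k : ℤ, ∃ e ∈ E, x = g ^ k * e) ∧
    Nat.card (E ⊓ V W (n - 3) : Subgroup Ω) = p ^ 2 ∧
    (g * v₀ * g⁻¹ * v₀⁻¹ ∈ E ⊓ V W (n - 3)) ∧
    (∀ x ∈ normalizerIn S E, ∀ v ∈ E, x * v * x⁻¹ * v⁻¹ ∈ Subgroup.zpowers (g * v₀ * g⁻¹ * v₀⁻¹)) ∧
    ∃ τ : MulAut (V W (n - 3)), τ ∈ F.autGroup (V W (n - 3)) ∧
      (∀ x, τ (τ x) = x) ∧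
      (∀ x : V W (n - 3), (x : Ω) = g * v₀ * g⁻¹ * v₀⁻¹ → (τ x : Ω) = (x : Ω)⁻¹) ∧
      (∀ x : V W (n - 3), (x : Ω) ∈ E → ∃ k : ℕ, (τ x : Ω) = x * (g * v₀ * g⁻¹ * v₀⁻¹) ^ k) ∧
      (∀ x : V W (n - 3), (τ x : Ω) * (x : Ω)⁻¹ ∈ E) := by
  have h4 := h.four_le
  have hle := ess_le hE
  have hcent := ess_centralizerIn_le hE
  have hgS : g ∈ S := V_le _ hgZ
  have hgN : g ∈ normalizerIn S E := hZN hgZ
  have hgn : g ∈ Subgroup.normalizer (E : Set Ω) := hgN.2
  obtain ⟨hNdec, hNcard, u, huF, huu, huE, huN, huc, huK', huK⟩ := ess_ext hp3 hS hF hE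
    (fun x y => Subtype.ext (hab x x.2 y y.2)) (fun x => Subtype.ext (hexp x x.2)) hgS hgn hv₀E hv₀
    hgen hz2
  have hfE : Finite E := finite_of_le hle
  obtain ⟨c, hc⟩ : ∃ c, c = g * v₀ * g⁻¹ * v₀⁻¹ := ⟨_, rfl⟩
  obtain ⟨Z, hZ⟩ : ∃ Z, Z = V W (n - 3) := ⟨_, rfl⟩
  obtain ⟨N, hN⟩ : ∃ N, N = normalizerIn S E := ⟨_, rfl⟩
  rw [← hc] at huK ⊢
  rw [← hZ] at hZN hgZ ⊢
  have hZS : Z ≤ S := by rw [hZ]; exact V_le _
  have hZconj : ∀ s ∈ S, ∀ z ∈ Z, s * z * s⁻¹ ∈ Z := by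
    intro s hs z hz
    rw [hZ] at hz ⊢
    exact V_conj h hz hs
  have hZcard : Nat.card Z = p ^ 3 := by rw [hZ]; exact V_card h 3 (by omega)
  have hfZ : Finite Z := finite_of_le hZS
  have hNS : N ≤ S := by rw [hN]; exact inf_le_left
  have hfN : Finite N := finite_of_le hNS
  have hNc : Nat.card N = p ^ 4 := by rw [hN, hNcard, hcard]; ring
  have hEN : E ≤ N := by rw [hN]; exact le_normalizerIn hle
  rw [← hN] at hZN
  have hgE : g ∉ E := by
    intro hgE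
    apply hv₀
    rw [hab g hgE v₀ hv₀E, mul_inv_cancel_right]
  have hZab : ∀ x ∈ Z, ∀ y ∈ Z, x * y = y * x := by
    intro x hx y hy
    rw [hZ] at hx hy
    have := V_self h hx hy
    rw [V_bot h (by omega), Subgroup.mem_bot, commutatorElement_eq_one_iff_mul_comm] at this
    exact this
  -- R = E ⊓ Z
  obtain ⟨R, hR⟩ : ∃ R, R = E ⊓ Z := ⟨_, rfl⟩
  have hRE : R ≤ E := by rw [hR]; exact inf_le_left
  have hRZ : R ≤ Z := by rw [hR]; exact inf_le_right
  have hmemR : ∀ x, x ∈ R ↔ x ∈ E ∧ x ∈ Z := by intro x; rw [hR]; exact Subgroup.mem_inf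
  have hpp := hp.out.pos
  have hp1 := hp.out.one_lt
  have hZN_idx : Z.relIndex N = p := by
    have h1 := card_mul_relIndex hZN
    rw [hNc, hZcard] at h1
    exact Nat.eq_of_mul_eq_mul_left (pow_pos hpp 3) (by rw [h1]; ring)
  have hRcard : Nat.card R = p ^ 2 := by
    have h1 : Z.relIndex E ≤ p := by
      rw [← hZN_idx]
      exact Subgroup.relIndex_le_of_le_right hEN (by rw [hZN_idx]; exact hp.out.ne_zero)
    have h2 := card_mul_relIndex hRE
    have h3 : R.relIndex E = Z.relIndex E := by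
      rw [hR, inf_comm, Subgroup.inf_relIndex_right]
    rw [h3, hcard] at h2
    have h5 : Nat.card R ∣ p ^ 3 := by rw [← hcard]; exact Subgroup.card_dvd_of_le hRE
    obtain ⟨j, hj, hje⟩ := (Nat.dvd_prime_pow hp.out).1 h5
    have hj3 : j ≠ 3 := by
      rintro rfl
      have h6 : R = Z := Subgroup.eq_of_le_of_card_ge hRZ (by rw [hje, hZcard])
      apply hgE
      apply hRE
      rw [h6]
      exact hgZ
    have hj2 : 2 ≤ j := by
      by_contra hlt
      have h6 : p ^ j ≤ p := by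
        calc p ^ j ≤ p ^ 1 := Nat.pow_le_pow_right hpp (by omega)
          _ = p := pow_one p
      have h7 : p ^ 3 ≤ p * p := by
        rw [← h2, hje]
        exact Nat.mul_le_mul h6 h1
      have h8 : p * p < p ^ 3 := by
        calc p * p = p ^ 2 := by ring
          _ < p ^ 3 := Nat.pow_lt_pow_right hp1 (by norm_num)
      omega
    have : j = 2 := by omega
    rw [hje, this]
  have hRE_idx : R.relIndex E = p := by
    have h1 := card_mul_relIndex hRE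
    rw [hcard, hRcard] at h1
    exact Nat.eq_of_mul_eq_mul_left (pow_pos hpp 2) (by rw [h1]; ring)
  have hRZ_idx : R.relIndex Z = p := by
    have h1 := card_mul_relIndex hRZ
    rw [hZcard, hRcard] at h1
    exact Nat.eq_of_mul_eq_mul_left (pow_pos hpp 2) (by rw [h1]; ring)
  -- K = R
  have hKR : ∀ x ∈ E, g * x * g⁻¹ = x → x ∈ R := by
    obtain ⟨K, hK⟩ : ∃ K, K = E ⊓ Subgroup.centralizer ({g} : Set Ω) := ⟨_, rfl⟩
    have hKE : K ≤ E := by rw [hK]; exact inf_le_left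
    have hRK : R ≤ K := by
      intro r hr
      rw [hK]
      refine Subgroup.mem_inf.2 ⟨hRE hr, ?_⟩
      rw [Subgroup.mem_centralizer_singleton_iff]
      exact hZab r (hRZ hr) g hgZ
    have h1 := card_mul_relIndex hRK
    have h2 := card_mul_relIndex hKE
    have hne : K.relIndex E ≠ 1 := by
      intro h3
      rw [Subgroup.relIndex_eq_one] at h3
      have h5 := h3 hv₀E
      rw [hK] at h5
      have h6 := (Subgroup.mem_inf.1 h5).2
      rw [Subgroup.mem_centralizer_singleton_iff] at h6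
      apply hv₀
      rw [← h6, mul_inv_cancel_right]
    rw [hcard] at h2
    rw [hRcard] at h1
    have h3 : R.relIndex K * K.relIndex E = p := by
      apply Nat.eq_of_mul_eq_mul_left (pow_pos hpp 2)
      rw [← mul_assoc, h1, h2]; ring
    have h5 : K.relIndex E ∣ p := ⟨_, by rw [← h3, mul_comm]⟩
    have h6 := ((Nat.dvd_prime hp.out).1 h5).resolve_left hne
    rw [h6] at h3
    have h7 : R.relIndex K = 1 := Nat.eq_of_mul_eq_mul_right hpp (by rw [h3, one_mul])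
    have h8 : K ≤ R := Subgroup.relIndex_eq_one.1 h7
    intro x hx hgx
    apply h8
    rw [hK]
    refine Subgroup.mem_inf.2 ⟨hx, ?_⟩
    rw [Subgroup.mem_centralizer_singleton_iff]
    calc x * g = (g * x * g⁻¹) * g := by rw [hgx]
      _ = g * x := by group
  have hv₀R : v₀ ∉ R := by
    intro h5
    apply hv₀
    rw [hZab g hgZ v₀ (hRZ h5), mul_inv_cancel_right]
  have hv₀Z : v₀ ∉ Z := fun h5 => hv₀R ((hmemR _).2 ⟨hv₀E, h5⟩)
  have hcR : c ∈ R := by
    rw [hmemR, hc]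
    constructor
    · exact E.mul_mem ((Subgroup.mem_normalizer_iff.1 hgn _).1 hv₀E) (E.inv_mem hv₀E)
    · have e : g * v₀ * g⁻¹ * v₀⁻¹ = g * (v₀ * g⁻¹ * v₀⁻¹) := by group
      rw [e]
      exact Z.mul_mem hgZ (hZconj v₀ (hle hv₀E) _ (Z.inv_mem hgZ))
  have hgc : g * c = c * g := hZab g hgZ c (hRZ hcR)
  -- generation of E
  have hEgen : ∀ v ∈ E, ∃ (k : ℕ) (r : Ω), r ∈ R ∧ v = r * v₀ ^ k := by
    intro v hv
    obtain ⟨k, hk⟩ := exists_pow_of_relIndex hRE_idx (by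
      intro x hx a ha
      rw [hab x hx a (hRE ha), mul_inv_cancel_right]
      exact ha) hv₀E hv₀R v hv
    exact ⟨k, _, hk, by group⟩
  refine ⟨by rw [← hN]; exact hNc, hNdec, by rw [← hR]; exact hRcard, by rw [← hR]; exact hcR, ?_, ?_⟩
  · -- commutators
    intro x hx v hv
    obtain ⟨k, e, he, rfl⟩ := hNdec x hx
    obtain ⟨i, r, hr, rfl⟩ := hEgen v hv
    have hgk : ∀ j : ℤ, g ^ j * v₀ * (g ^ j)⁻¹ = c ^ j * v₀ := by
      have hcj : ∀ m : ℕ, g ^ m * v₀ * (g ^ m)⁻¹ = c ^ m * v₀ := by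
        intro m
        induction m with
        | zero => simp
        | succ m ih =>
          have e1 : g * c ^ m * g⁻¹ = c ^ m := by
            have : Commute g (c ^ m) := (show Commute g c from hgc).pow_right m
            rw [this.eq, mul_inv_cancel_right]
          calc g ^ (m + 1) * v₀ * (g ^ (m + 1))⁻¹ = g * (g ^ m * v₀ * (g ^ m)⁻¹) * g⁻¹ := by
                rw [pow_succ']; group
            _ = g * (c ^ m * v₀) * g⁻¹ := by rw [ih]
            _ = (g * c ^ m * g⁻¹) * (g * v₀ * g⁻¹ * v₀⁻¹) * v₀ := by group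
            _ = c ^ m * c * v₀ := by rw [e1, ← hc]
            _ = c ^ (m + 1) * v₀ := by rw [pow_succ]
      intro j
      obtain ⟨m, rfl | rfl⟩ := j.eq_nat_or_neg
      · rw [zpow_natCast, zpow_natCast]; exact hcj m
      · rw [zpow_neg, zpow_natCast, zpow_neg, zpow_natCast]
        have e1 := hcj m
        have e2 : (g ^ m)⁻¹ * c ^ m * g ^ m = c ^ m := by
          have : Commute (g ^ m) (c ^ m) := (show Commute g c from hgc).pow_pow m m
          rw [mul_assoc, ← this.eq, ← mul_assoc, inv_mul_cancel, one_mul]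
        have e3 : v₀ = ((g ^ m)⁻¹ * c ^ m * g ^ m) * ((g ^ m)⁻¹ * v₀ * g ^ m) := by
          calc v₀ = (g ^ m)⁻¹ * (g ^ m * v₀ * (g ^ m)⁻¹) * g ^ m := by group
            _ = (g ^ m)⁻¹ * (c ^ m * v₀) * g ^ m := by rw [e1]
            _ = _ := by group
        rw [e2] at e3
        rw [inv_inv, ← inv_mul_eq_of_eq_mul e3]
    have e1 : g ^ k * r * (g ^ k)⁻¹ = r := by
      have : Commute (g ^ k) r := (show Commute g r from hZab g hgZ r (hRZ hr)).zpow_left k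
      rw [this.eq, mul_inv_cancel_right]
    have e2 : e * (r * v₀ ^ i) * e⁻¹ = r * v₀ ^ i := by
      rw [hab e he _ hv, mul_inv_cancel_right]
    have e3 : g ^ k * e * (r * v₀ ^ i) * (g ^ k * e)⁻¹ * (r * v₀ ^ i)⁻¹ = (c ^ k) ^ i := by
      have hcv : Commute (c ^ k) v₀ := (show Commute c v₀ from hab c (hRE hcR) v₀ hv₀E).zpow_left k
      have hcr : Commute (c ^ k) r := (show Commute c r from hab c (hRE hcR) r (hRE hr)).zpow_left k
      calc g ^ k * e * (r * v₀ ^ i) * (g ^ k * e)⁻¹ * (r * v₀ ^ i)⁻¹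
          = g ^ k * (e * (r * v₀ ^ i) * e⁻¹) * (g ^ k)⁻¹ * (r * v₀ ^ i)⁻¹ := by group
        _ = g ^ k * (r * v₀ ^ i) * (g ^ k)⁻¹ * (r * v₀ ^ i)⁻¹ := by rw [e2]
        _ = (g ^ k * r * (g ^ k)⁻¹) * (g ^ k * v₀ * (g ^ k)⁻¹) ^ i * (r * v₀ ^ i)⁻¹ := by
            rw [conj_pow]; group
        _ = r * (c ^ k * v₀) ^ i * (r * v₀ ^ i)⁻¹ := by rw [e1, hgk]
        _ = r * ((c ^ k) ^ i * v₀ ^ i) * (r * v₀ ^ i)⁻¹ := by rw [hcv.mul_pow]
        _ = r * (c ^ k) ^ i * r⁻¹ := by group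
        _ = (c ^ k) ^ i := by rw [← (hcr.pow_left i).eq, mul_inv_cancel_right]
    rw [e3]
    exact Subgroup.pow_mem _ (Subgroup.zpow_mem _ (Subgroup.mem_zpowers c) k) i
  -- action of `u` on `R`
  have huR : ∀ x : normalizerIn S E, (x : Ω) ∈ R → ((u x : normalizerIn S E) : Ω) ∈ R := by
    intro x hx
    have hgx : g * (x : Ω) * g⁻¹ = x := by
      rw [hZab g hgZ x (hRZ hx), mul_inv_cancel_right]
    obtain ⟨k, hk⟩ := huK x (hRE hx) hgx
    rw [hk]
    exact R.mul_mem hx (R.pow_mem hcR k)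
  have hNnorm : ∀ x ∈ N, ∀ z ∈ R, x * z = z * x := by
    intro x hx z hz
    rw [hN] at hx
    obtain ⟨k, e, he, rfl⟩ := hNdec x hx
    have e1 : Commute (g ^ k) z := (show Commute g z from hZab g hgZ z (hRZ hz)).zpow_left k
    have e2 : Commute e z := hab e he z (hRE hz)
    exact (e1.mul_left e2).eq
  -- the main claim
  have hmain : ∀ x : normalizerIn S E, (x : Ω) ∈ Z → ((u x : normalizerIn S E) : Ω) ∈ Z := by
    by_contra hcon
    push Not at hcon
    obtain ⟨x₁, hx₁Z, hx₁⟩ := hcon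
    have hScard : Nat.card S = p ^ n := h.card_group
    have hpn : p ^ 4 < p ^ n := Nat.pow_lt_pow_right hp1 (by omega)
    have hNne : N ≠ S := by
      intro heq
      rw [heq, hScard] at hNc
      omega
    have hlt := card_lt_card_normalizerIn hS hNS hNne
    obtain ⟨m, hmN', hmN⟩ : ∃ m ∈ normalizerIn S N, m ∉ N := by
      by_contra hcon
      push Not at hcon
      have h1 : normalizerIn S N ≤ N := hcon
      have := Subgroup.card_le_of_le h1
      omega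
    have hmS : m ∈ S := hmN'.1
    have hconjN : ∀ s ∈ normalizerIn S N, ∀ x ∈ N, s * x * s⁻¹ ∈ N := fun s hs x hx =>
      (Subgroup.mem_normalizer_iff.1 hs.2 x).1 hx
    have hconjR : ∀ s ∈ normalizerIn S N, ∀ r ∈ R, s * r * s⁻¹ ∈ R := by
      intro s hs r hr
      have hall : ∀ x ∈ N, x * (s * r * s⁻¹) = (s * r * s⁻¹) * x := by
        intro x hx
        have h1 := hconjN s⁻¹ (Subgroup.inv_mem _ hs) x hx
        rw [inv_inv] at h1
        have h2 := hNnorm _ h1 r hr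
        calc x * (s * r * s⁻¹) = s * ((s⁻¹ * x * s) * r) * s⁻¹ := by group
          _ = s * (r * (s⁻¹ * x * s)) * s⁻¹ := by rw [h2]
          _ = (s * r * s⁻¹) * x := by group
      have hE1 : s * r * s⁻¹ ∈ E := by
        apply hcent
        refine Subgroup.mem_inf.2 ⟨S.mul_mem (S.mul_mem hs.1 (hle (hRE hr))) (S.inv_mem hs.1), ?_⟩
        rw [Subgroup.mem_centralizer_iff]
        intro v hv
        exact hall v (hEN hv)
      apply hKR _ hE1
      rw [hall g (by rw [hN]; exact hgN), mul_inv_cancel_right]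
    have hconjZ : ∀ s ∈ S, ∀ z ∈ Z, s * z * s⁻¹ ∈ Z := hZconj
    -- m moves E
    have hmv : m * v₀ * m⁻¹ ∉ E := by
      intro hmem
      apply hmN
      rw [hN]
      refine Subgroup.mem_inf.2 ⟨hmS, ?_⟩
      rw [Cfsg.Agent.EvenType.StrongP.mem_norm]
      apply Subgroup.eq_of_le_of_card_ge
      · rintro _ ⟨v, hv, rfl⟩
        obtain ⟨k, r, hr, rfl⟩ := hEgen v hv
        show m * (r * v₀ ^ k) * m⁻¹ ∈ E
        have e : m * (r * v₀ ^ k) * m⁻¹ = (m * r * m⁻¹) * (m * v₀ * m⁻¹) ^ k := by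
          rw [conj_pow]; group
        rw [e]
        exact E.mul_mem (hRE (hconjR m hmN' r hr)) (E.pow_mem hmem k)
      · exact (Nat.card_congr (E.equivMapOfInjective _ (MulAut.conj m).injective).toEquiv).le
    obtain ⟨d, hd⟩ : ∃ d, d = v₀⁻¹ * (m * v₀ * m⁻¹) := ⟨_, rfl⟩
    have hdZ : d ∈ Z := by
      rw [hd]
      exact trivial_section hS hNS hmS (fun x hx => hconjZ m hmS x hx)
        (fun x hx => hconjN m hmN' x hx) hZN_idx v₀ (hEN hv₀E)
    have hdR : d ∉ R := by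
      intro h5
      apply hmv
      have e : m * v₀ * m⁻¹ = v₀ * d := by rw [hd]; group
      rw [e]
      exact E.mul_mem hv₀E (hRE h5)
    have hmZ3 : ∀ z ∈ Z, z⁻¹ * (m * z * m⁻¹) ∈ R :=
      trivial_section hS hZS hmS (fun x hx => hconjR m hmN' x hx)
        (fun x hx => hconjZ m hmS x hx) hRZ_idx
    have hpowm : ∀ j : ℕ, ∃ r ∈ R, m ^ j * v₀ * (m ^ j)⁻¹ = v₀ * d ^ j * r := by
      intro j
      induction j with
      | zero => exact ⟨1, R.one_mem, by simp⟩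
      | succ j ih =>
        obtain ⟨r, hr, hre⟩ := ih
        obtain ⟨r', hr'⟩ : ∃ r', r' = d⁻¹ * (m * d * m⁻¹) := ⟨_, rfl⟩
        have hr'R : r' ∈ R := by rw [hr']; exact hmZ3 d hdZ
        refine ⟨r' ^ j * (m * r * m⁻¹), R.mul_mem (R.pow_mem hr'R j) (hconjR m hmN' r hr), ?_⟩
        have e1 : m * d * m⁻¹ = d * r' := by rw [hr']; group
        have e2 : m * v₀ * m⁻¹ = v₀ * d := by rw [hd]; group
        have e3 : Commute d r' := hZab d hdZ r' (hRZ hr'R)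
        calc m ^ (j + 1) * v₀ * (m ^ (j + 1))⁻¹ = m * (m ^ j * v₀ * (m ^ j)⁻¹) * m⁻¹ := by
              rw [pow_succ']; group
          _ = m * (v₀ * d ^ j * r) * m⁻¹ := by rw [hre]
          _ = (m * v₀ * m⁻¹) * (m * d * m⁻¹) ^ j * (m * r * m⁻¹) := by rw [conj_pow]; group
          _ = v₀ * d * (d ^ j * r' ^ j) * (m * r * m⁻¹) := by rw [e1, e2, e3.mul_pow]
          _ = v₀ * d ^ (j + 1) * (r' ^ j * (m * r * m⁻¹)) := by rw [pow_succ']; group
    -- z₂ with u z₂ = v₀ z₃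
    obtain ⟨b, hb⟩ := exists_pow_of_relIndex hZN_idx (fun x hx a ha => hconjZ x (hNS hx) a ha)
      (v₀ := ((u x₁ : normalizerIn S E) : Ω)) (by rw [hN]; exact (u x₁).2) hx₁ v₀ (hEN hv₀E)
    obtain ⟨x₂, hx₂⟩ : ∃ x₂, x₂ = x₁ ^ b := ⟨_, rfl⟩
    have hx₂Z : (x₂ : Ω) ∈ Z := by
      rw [hx₂, Subgroup.coe_pow]
      exact Z.pow_mem hx₁Z b
    obtain ⟨z₃, hz₃⟩ : ∃ z₃, z₃ = v₀⁻¹ * ((u x₂ : normalizerIn S E) : Ω) := ⟨_, rfl⟩
    have hz₃Z : z₃ ∈ Z := by
      have h1 := hconjZ v₀⁻¹ (S.inv_mem (hle hv₀E)) _ (Z.inv_mem hb)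
      have e : v₀⁻¹ * (v₀ * (((u x₁ : normalizerIn S E) : Ω) ^ b)⁻¹)⁻¹ * v₀⁻¹⁻¹ = z₃ := by
        rw [hz₃, hx₂, map_pow, Subgroup.coe_pow]
        group
      rwa [e] at h1
    obtain ⟨j, hj⟩ := exists_pow_of_relIndex hRZ_idx (fun x hx a ha => by
      rw [hZab x hx a (hRZ ha), mul_inv_cancel_right]
      exact ha) hdZ hdR z₃ hz₃Z
    obtain ⟨r, hr, hre⟩ := hpowm j
    -- conjugating back
    have hmj : m ^ j ∈ normalizerIn S N := Subgroup.pow_mem _ hmN' j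
    have hE2 : (m ^ j)⁻¹ * ((u x₂ : normalizerIn S E) : Ω) * m ^ j ∈ E := by
      obtain ⟨r₁, hr₁⟩ : ∃ r₁, r₁ = z₃ * (d ^ j)⁻¹ := ⟨_, rfl⟩
      have hr₁R : r₁ ∈ R := by rw [hr₁]; exact hj
      have e1 : ((u x₂ : normalizerIn S E) : Ω) = (m ^ j * v₀ * (m ^ j)⁻¹) * (r⁻¹ * r₁) := by
        have e2 : r₁ * d ^ j = d ^ j * r₁ := by
          have : Commute d r₁ := hZab d hdZ r₁ (hRZ hr₁R)
          exact (this.pow_left j).eq.symm
        calc ((u x₂ : normalizerIn S E) : Ω) = v₀ * z₃ := by rw [hz₃]; group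
          _ = v₀ * (r₁ * d ^ j) := by rw [hr₁]; group
          _ = (v₀ * d ^ j * r) * (r⁻¹ * r₁) := by rw [e2]; group
          _ = _ := by rw [hre]
      have h1 := hconjR (m ^ j)⁻¹ (Subgroup.inv_mem _ hmj) (r⁻¹ * r₁) (R.mul_mem (R.inv_mem hr) hr₁R)
      have e3 : (m ^ j)⁻¹ * ((u x₂ : normalizerIn S E) : Ω) * m ^ j =
          v₀ * ((m ^ j)⁻¹ * (r⁻¹ * r₁) * (m ^ j)⁻¹⁻¹) := by rw [e1]; group
      rw [e3]
      exact E.mul_mem hv₀E (hRE h1)
    have hx₂R : (x₂ : Ω) ∉ R := by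
      intro h5
      have h6 := hRZ (huR x₂ h5)
      have e : ((u x₂ : normalizerIn S E) : Ω) = v₀ * z₃ := by rw [hz₃]; group
      rw [e] at h6
      exact hv₀Z ((Subgroup.mul_mem_cancel_right _ hz₃Z).1 h6)
    have hallE : ∀ z : normalizerIn S E, (z : Ω) ∈ Z →
        (m ^ j)⁻¹ * ((u z : normalizerIn S E) : Ω) * m ^ j ∈ E := by
      intro z hz
      obtain ⟨i, hi⟩ := exists_pow_of_relIndex hRZ_idx (fun x hx a ha => by
        rw [hZab x hx a (hRZ ha), mul_inv_cancel_right]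
        exact ha) hx₂Z hx₂R z hz
      have hRN : (z : Ω) * ((x₂ : Ω) ^ i)⁻¹ ∈ normalizerIn S E := le_normalizerIn hle (hRE hi)
      obtain ⟨w, hw⟩ : ∃ w : normalizerIn S E, w = ⟨_, hRN⟩ := ⟨_, rfl⟩
      have e1 : z = w * x₂ ^ i := by
        apply Subtype.ext
        rw [Subgroup.coe_mul, Subgroup.coe_pow, hw]
        group
      have hwR : (w : Ω) ∈ R := by rw [hw]; exact hi
      have h1 := hconjR (m ^ j)⁻¹ (Subgroup.inv_mem _ hmj) _ (huR w hwR)
      have e2 : (m ^ j)⁻¹ * ((u z : normalizerIn S E) : Ω) * m ^ j =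
          ((m ^ j)⁻¹ * ((u w : normalizerIn S E) : Ω) * (m ^ j)⁻¹⁻¹) *
            ((m ^ j)⁻¹ * ((u x₂ : normalizerIn S E) : Ω) * m ^ j) ^ i := by
        have e3 : ((m ^ j)⁻¹ * ((u x₂ : normalizerIn S E) : Ω) * m ^ j) ^ i =
            (m ^ j)⁻¹ * ((u x₂ : normalizerIn S E) : Ω) ^ i * m ^ j := by
          have := conj_pow (i := i) (a := (m ^ j)⁻¹) (b := ((u x₂ : normalizerIn S E) : Ω))
          rw [inv_inv] at this
          exact this
        rw [e3, e1, map_mul, map_pow, Subgroup.coe_mul, Subgroup.coe_pow]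
        group
      rw [e2]
      exact E.mul_mem (hRE h1) (E.pow_mem hE2 i)
    -- the map Z → E
    have hZN' : Z ≤ normalizerIn S E := by rw [← hN]; exact hZN
    have hφ₀ := (mem_autGroup_iff F (P := normalizerIn S E) inf_le_left u).1 huF
    have hφ₁ := restrict_mem hφ₀ hZN'
    obtain ⟨φ, hφ, hφe⟩ := exists_comp hφ₁ (F.conj_mem (P := S) (g := (m ^ j)⁻¹) le_rfl
      (S.inv_mem (S.pow_mem hmS j))) (fun x => hom_apply_mem hφ₁ x)
    have hφE : ∀ x : Z, φ x ∈ E := by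
      intro x
      rw [hφe]
      show (m ^ j)⁻¹ * ((u ⟨x, hZN' x.2⟩ : normalizerIn S E) : Ω) * (m ^ j)⁻¹⁻¹ ∈ E
      rw [inv_inv]
      exact hallE ⟨x, hZN' x.2⟩ x.2
    have hφr : φ.range = E := by
      apply Subgroup.eq_of_le_of_card_ge
      · rintro _ ⟨x, rfl⟩
        exact hφE x
      · rw [← isConj_card_eq (isConj_range hφ), hcard, hZcard]
    have hconj : F.IsConj E Z := isConj_symm ⟨φ, hφ, hφr⟩
    have hle2 := (ess_normalizedIn hE).2 Z hconj
    have hSZ : normalizerIn S Z = S := by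
      apply le_antisymm inf_le_left
      refine le_inf le_rfl ?_
      intro s hs
      rw [Cfsg.Agent.EvenType.StrongP.mem_norm]
      apply Subgroup.eq_of_le_of_card_ge
      · rintro _ ⟨v, hv, rfl⟩
        exact hconjZ s hs v hv
      · exact (Nat.card_congr (Z.equivMapOfInjective _ (MulAut.conj s).injective).toEquiv).le
    rw [hSZ, hScard, ← hN, hNc] at hle2
    omega
  -- the automorphism of Z
  have hZN' : Z ≤ normalizerIn S E := by rw [← hN]; exact hZN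
  have hφ₀ := (mem_autGroup_iff F (P := normalizerIn S E) inf_le_left u).1 huF
  have hφ₁ := restrict_mem hφ₀ hZN'
  have hφ₁e : ∀ x : Z, (((normalizerIn S E).subtype.comp u.toMonoidHom).comp (Subgroup.inclusion hZN')) x =
      ((u ⟨x, hZN' x.2⟩ : normalizerIn S E) : Ω) := fun x => rfl
  have hφr : (((normalizerIn S E).subtype.comp u.toMonoidHom).comp (Subgroup.inclusion hZN')).range = Z := by
    apply range_eq_of_mapsTo hφ₁
    intro x
    rw [hφ₁e]
    exact hmain _ x.2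
  obtain ⟨τ, hτ, hτe⟩ := exists_aut hφ₁ hφr
  have hτe' : ∀ x : Z, (τ x : Ω) = ((u ⟨x, hZN' x.2⟩ : normalizerIn S E) : Ω) := fun x => hτe x
  refine ⟨τ, hτ, ?_, ?_, ?_, ?_⟩
  · intro x
    apply Subtype.ext
    rw [hτe']
    have e : (⟨((τ x : Z) : Ω), hZN' (τ x).2⟩ : normalizerIn S E) = u ⟨x, hZN' x.2⟩ :=
      Subtype.ext (hτe' x)
    rw [e, ← MulAut.mul_apply, huu]
    rfl
  · intro x hx
    rw [hτe']
    exact huc v₀ hv₀E ⟨x, hZN' x.2⟩ (by rw [← hc]; exact hx)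
  · intro x hx
    obtain ⟨k, hk⟩ := huK ⟨x, hZN' x.2⟩ hx (by
      show g * (x : Ω) * g⁻¹ = x
      rw [hZab g hgZ x x.2, mul_inv_cancel_right])
    exact ⟨k, by rw [hτe']; exact hk⟩
  · intro x
    rw [hτe']
    exact huN ⟨x, hZN' x.2⟩

end Cfsg.Agent.H797.MaxEss
end

-- part: H797/MaxFinal
section
/-!
# No elementary abelian essential subgroups of order `p³` in groups of maximal class of order `≥ p⁵`
-/

set_option autoImplicit false
set_option linter.unusedSectionVars false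

namespace Cfsg.Agent.H797.MaxEss

open Cfsg Cfsg.FusionSystem Cfsg.Agent.H802 Cfsg.Agent.H766 Cfsg.Agent.H467.MaxClass
open Cfsg.Agent.H797.MaxOmega Cfsg.Agent.H797.EssTv Cfsg.Agent.H797.MaxParity
open scoped commutatorElement

universe u

variable {Ω : Type u} [Group Ω] {S : Subgroup Ω}

theorem mem_normalizer_of_le [Finite S] {E : Subgroup Ω} (hE : E ≤ S) {g : Ω}
    (h : ∀ v ∈ E, g * v * g⁻¹ ∈ E) : g ∈ Subgroup.normalizer (E : Set Ω) := by
  have hfE : Finite E := finite_of_le hE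
  rw [Cfsg.Agent.EvenType.StrongP.mem_norm]
  apply Subgroup.eq_of_le_of_card_ge
  · rintro _ ⟨v, hv, rfl⟩
    exact h v hv
  · exact (Nat.card_congr (E.equivMapOfInjective _ (MulAut.conj g).injective).toEquiv).le

theorem mem_normalizerIn_of_comm [Finite S] {E : Subgroup Ω} (hE : E ≤ S) {g : Ω} (hg : g ∈ S)
    (h : ∀ v ∈ E, ⁅g, v⁆ ∈ E) : g ∈ normalizerIn S E := by
  refine Subgroup.mem_inf.2 ⟨hg, mem_normalizer_of_le hE ?_⟩
  intro v hv
  have e : g * v * g⁻¹ = ⁅g, v⁆ * v := by rw [commutatorElement_def]; group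
  rw [e]
  exact E.mul_mem (h v hv) hv

variable {p n : ℕ} {W : ℕ → Subgroup S}

theorem V_normalizerIn (h : MC S p n W) [Finite S] (i : ℕ) : normalizerIn S (V W i) = S := by
  apply le_antisymm inf_le_left
  refine le_inf le_rfl ?_
  intro s hs
  exact mem_normalizer_of_le (V_le i) (fun v hv => V_conj h hv hs)

theorem V_fullyNormalized (h : MC S p n W) [Finite S] (F : FusionSystem S) (i : ℕ) :
    F.IsFullyNormalized (V W i) := by
  refine ⟨V_le i, fun Q _ => ?_⟩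
  rw [V_normalizerIn h i]
  exact Subgroup.card_le_of_le inf_le_left

/-- extension of `τ` to `S` -/
theorem exists_sigma [Finite S] (hS : IsPGroup p S) (h : MC S p n W) [hp : Fact p.Prime]
    {F : FusionSystem S} (hF : F.IsSaturated p)
    {τ : MulAut (V W (n - 3))} (hτ : τ ∈ F.autGroup (V W (n - 3))) (hττ : ∀ x, τ (τ x) = x)
    (h2 : ∀ x : V W (n - 3), (x : Ω) ∈ V W (n - 2) → (τ x : Ω) ∈ V W (n - 2))
    (h1 : ∀ x : V W (n - 3), (x : Ω) ∈ V W (n - 1) → (τ x : Ω) ∈ V W (n - 1)) :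
    ∃ σ : S →* S, Function.Surjective σ ∧
      ∀ (x : Ω) (hx : x ∈ V W (n - 3)) (hx' : x ∈ S), (σ ⟨x, hx'⟩ : Ω) = τ ⟨x, hx⟩ := by
  have h4 := h.four_le
  have hfN := V_fullyNormalized h F (n - 3)
  obtain ⟨ψ, hψ, hψe⟩ := Cfsg.Agent.H797.StabExt.exists_ext hS hF hfN
    (fun i => (V W (n - 3 + i)).subgroupOf (V W (n - 3))) 3
    (by
      show (V W (n - 3 + 0)).subgroupOf (V W (n - 3)) = ⊤
      rw [add_zero, Subgroup.subgroupOf_self])
    (by
      show (V W (n - 3 + 3)).subgroupOf (V W (n - 3)) = ⊥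
      rw [V_bot h (i := n - 3 + 3) (by omega), Subgroup.bot_subgroupOf])
    (by
      intro α hα
      obtain ⟨s, hs, hαs⟩ := (mem_autInducedBy_iff S _ α).1 hα
      refine ⟨fun i _ x => ?_, fun i _ x hx => ?_⟩
      · rw [Subgroup.mem_subgroupOf, Subgroup.mem_subgroupOf, hαs]
        constructor
        · intro hx
          have := V_conj h hx (S.inv_mem hs)
          have e : s⁻¹ * (s * (x : Ω) * s⁻¹) * s⁻¹⁻¹ = x := by group
          rwa [e] at this
        · intro hx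
          exact V_conj h hx hs
      · rw [Subgroup.mem_subgroupOf] at hx ⊢
        show (x : Ω)⁻¹ * (α x : Ω) ∈ V W (n - 3 + (i + 1))
        rw [hαs]
        have := V_comm_S h (Subgroup.inv_mem _ hx) hs
        have e : ⁅(x : Ω)⁻¹, s⁆ = (x : Ω)⁻¹ * (s * (x : Ω) * s⁻¹) := by
          rw [commutatorElement_def]; group
        rw [e] at this
        exact this) hτ (by
      have hmap : ∀ i ≤ 3, ∀ x : V W (n - 3), (x : Ω) ∈ V W (n - 3 + i) →
          (τ x : Ω) ∈ V W (n - 3 + i) := by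
        intro i hi x hx
        interval_cases i
        · exact (τ x).2
        · rw [show n - 3 + 1 = n - 2 by omega] at hx ⊢
          exact h2 x hx
        · rw [show n - 3 + 2 = n - 1 by omega] at hx ⊢
          exact h1 x hx
        · rw [V_bot h (by omega), Subgroup.mem_bot] at hx ⊢
          have : x = 1 := Subtype.ext hx
          rw [this, map_one]
          rfl
      intro i hi x
      rw [Subgroup.mem_subgroupOf, Subgroup.mem_subgroupOf]
      refine ⟨fun hx => ?_, fun hx => hmap i hi x hx⟩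
      have := hmap i hi (τ x) hx
      rwa [hττ] at this)
  have hSN : S ≤ normalizerIn S (V W (n - 3)) := (V_normalizerIn h (n - 3)).ge
  have hψ' := restrict_mem hψ hSN
  have hr := range_eq_of_mapsTo hψ' (fun x => hom_apply_mem hψ' x)
  obtain ⟨σ, hσ, hσe⟩ := exists_aut hψ' hr
  refine ⟨σ.toMonoidHom, σ.surjective, ?_⟩
  intro x hx hx'
  show ((σ ⟨x, hx'⟩ : S) : Ω) = _
  rw [hσe]
  exact hψe x hx _

/-- **Main theorem.** -/
theorem no_elementary_cube [Finite S] (hS : IsPGroup p S) (h : MC S p n W) [hp : Fact p.Prime]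
    (hp3 : 3 ≤ p) (hn : 5 ≤ n) {F : FusionSystem S} (hF : F.IsSaturated p) {E : Subgroup Ω}
    (hE : F.IsEssential p E) (hab : ∀ x ∈ E, ∀ y ∈ E, x * y = y * x) (hexp : ∀ x ∈ E, x ^ p = 1)
    (hcard : Nat.card E = p ^ 3) : False := by
  have hle := ess_le hE
  have hfE : Finite E := finite_of_le hle
  have hcent := ess_centralizerIn_le hE
  have hpp := hp.out.pos
  have hp1 := hp.out.one_lt
  have hScard : Nat.card S = p ^ n := h.card_group
  have hfV : ∀ i, Finite (V W i) := fun i => finite_of_le (V_le i)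
  have hZ1card : Nat.card (V W (n - 1)) = p := by
    have := V_card h 1 (by omega)
    rwa [pow_one] at this
  have hZ2card : Nat.card (V W (n - 2)) = p ^ 2 := V_card h 2 (by omega)
  have hZ3card : Nat.card (V W (n - 3)) = p ^ 3 := V_card h 3 (by omega)
  have hcentE : ∀ x ∈ S, (∀ y ∈ E, x * y = y * x) → x ∈ E := by
    intro x hx hxy
    apply hcent
    refine Subgroup.mem_inf.2 ⟨hx, ?_⟩
    rw [Subgroup.mem_centralizer_iff]
    intro y hy
    exact (hxy y hy).symm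
  have hZ1E : V W (n - 1) ≤ E := fun z hz =>
    hcentE z (V_le _ hz) (fun y hy => V_center h hz (hle hy))
  have hZ12 : V W (n - 1) ≤ V W (n - 2) := V_anti h (by omega)
  have hZ23 : V W (n - 2) ≤ V W (n - 3) := V_anti h (by omega)
  have hZ3ab : ∀ x ∈ V W (n - 3), ∀ y ∈ V W (n - 3), x * y = y * x := by
    intro x hx y hy
    have := V_self h hx hy
    rw [V_bot h (by omega), Subgroup.mem_bot, commutatorElement_eq_one_iff_mul_comm] at this
    exact this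
  have hmoves : ∀ g ∈ S, g ∉ E → ∃ v₀ ∈ E, g * v₀ * g⁻¹ ≠ v₀ := by
    intro g hg hgE
    by_contra hcon
    push Not at hcon
    apply hgE
    apply hcentE g hg
    intro y hy
    have := hcon y hy
    calc g * y = (g * y * g⁻¹) * g := by group
      _ = y * g := by rw [this]
  -- final contradiction A
  have finA : ∀ (τ : MulAut (V W (n - 3))), τ ∈ F.autGroup (V W (n - 3)) → (∀ x, τ (τ x) = x) →
      ∀ c ∈ V W (n - 1), c ≠ 1 → (∀ x : V W (n - 3), (x : Ω) = c → (τ x : Ω) = (x : Ω)⁻¹) →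
      (∀ x : V W (n - 3), (x : Ω) ∈ V W (n - 2) → (x : Ω)⁻¹ * (τ x : Ω) ∈ V W (n - 1)) →
      (∀ x : V W (n - 3), (x : Ω)⁻¹ * (τ x : Ω) ∈ V W (n - 2)) → False := by
    intro τ hτ hττ c hc hc1 hτc hτ2 hτ3
    have hxm : ∀ (A : Subgroup Ω) (x y : Ω), x ∈ A → x⁻¹ * y ∈ A → y ∈ A := by
      intro A x y hx hxy
      have := A.mul_mem hx hxy
      rwa [mul_inv_cancel_left] at this
    obtain ⟨σ, hσ, hσe⟩ := exists_sigma hS h hF hτ hττ
      (fun x hx => hxm _ _ _ hx (hZ12 (hτ2 x hx)))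
      (fun x hx => hxm _ _ _ hx (hτ2 x (hZ12 hx)))
    have hcS : c ∈ S := V_le _ hc
    have hc3 : c ∈ V W (n - 3) := hZ23 (hZ12 hc)
    obtain ⟨hcS', hcW⟩ := mem_V.1 hc
    have e1 : Eig W σ (n - 1) (-1) := by
      refine eig_of_mem h hσ (by omega) hcW ?_ ?_
      · rw [show n - 1 + 1 = n by omega, h.bot, Subgroup.mem_bot]
        intro hh
        exact hc1 (congrArg Subtype.val hh)
      · have e : ((⟨c, hcS'⟩ : S) ^ (-1 : ℤ))⁻¹ * σ ⟨c, hcS'⟩ = 1 := by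
          apply Subtype.ext
          rw [zpow_neg_one, inv_inv, Subgroup.coe_mul, hσe c hc3 hcS', hτc ⟨c, hc3⟩ rfl]
          exact mul_inv_cancel c
        rw [e]
        exact one_mem _
    have e2 : Eig W σ (n - 2) 1 := by
      intro x hx
      rw [zpow_one, show n - 2 + 1 = n - 1 by omega]
      have hx2 : (x : Ω) ∈ V W (n - 2) := mem_V.2 ⟨x.2, hx⟩
      have h1 := hτ2 ⟨x, hZ23 hx2⟩ hx2
      rw [← hσe x (hZ23 hx2) x.2] at h1
      obtain ⟨h2, h3⟩ := mem_V.1 h1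
      exact h3
    have e3 : Eig W σ (n - 3) 1 := by
      intro x hx
      rw [zpow_one, show n - 3 + 1 = n - 2 by omega]
      have hx2 : (x : Ω) ∈ V W (n - 3) := mem_V.2 ⟨x.2, hx⟩
      have h1 := hτ3 ⟨x, hx2⟩
      rw [← hσe x hx2 x.2] at h1
      obtain ⟨h2, h3⟩ := mem_V.1 h1
      exact h3
    exact contraA h hp3 hn hσ e1 e2 e3
  by_cases hEV : E ≤ V W 1
  · -- Case A
    have hyps : ∀ g ∈ S, g ∉ E → (∀ v ∈ E, ⁅g, v⁆ ∈ V W (n - 1)) →
        ∃ v₀ ∈ E, g * v₀ * g⁻¹ ≠ v₀ ∧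
          (∀ v ∈ E, ∃ k : ℕ, g * (v * (v₀ ^ k)⁻¹) * g⁻¹ = v * (v₀ ^ k)⁻¹) ∧
          (∀ v ∈ E, g * (g * v * g⁻¹ * v⁻¹) * g⁻¹ = g * v * g⁻¹ * v⁻¹) := by
      intro g hg hgE hgv
      obtain ⟨v₀, hv₀E, hv₀⟩ := hmoves g hg hgE
      refine ⟨v₀, hv₀E, hv₀, ?_, ?_⟩
      · intro v hv
        have hne : ⁅g, v₀⁆ ∉ (⊥ : Subgroup Ω) := by
          rw [Subgroup.mem_bot, commutatorElement_eq_one_iff_mul_comm]
          intro hh
          apply hv₀
          rw [hh, mul_inv_cancel_right]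
        obtain ⟨k, hk⟩ := exists_pow_of_relIndex (p := p) (A := ⊥) (E := V W (n - 1))
          (by rw [Subgroup.relIndex_bot_left, hZ1card]) (by
            intro x _ a ha
            rw [Subgroup.mem_bot] at ha ⊢
            rw [ha]; group) (hgv v₀ hv₀E) hne _ (hgv v hv)
        rw [Subgroup.mem_bot] at hk
        refine ⟨k, ?_⟩
        have e1 : g * v * g⁻¹ = ⁅g, v⁆ * v := by rw [commutatorElement_def]; group
        have e2 : g * v₀ * g⁻¹ = ⁅g, v₀⁆ * v₀ := by rw [commutatorElement_def]; group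
        have e3 : Commute ⁅g, v₀⁆ v₀ := V_center h (hgv v₀ hv₀E) (hle hv₀E)
        have e4 : Commute (⁅g, v₀⁆ ^ k) v := (show Commute ⁅g, v₀⁆ v from
          V_center h (hgv v₀ hv₀E) (hle hv)).pow_left k
        have e5 : ⁅g, v⁆ = ⁅g, v₀⁆ ^ k := mul_inv_eq_one.1 hk
        calc g * (v * (v₀ ^ k)⁻¹) * g⁻¹ = (g * v * g⁻¹) * ((g * v₀ * g⁻¹) ^ k)⁻¹ := by
              rw [conj_pow]; group
          _ = ⁅g, v₀⁆ ^ k * v * (⁅g, v₀⁆ ^ k * v₀ ^ k)⁻¹ := by rw [e1, e2, e3.mul_pow, e5]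
          _ = v * ⁅g, v₀⁆ ^ k * (⁅g, v₀⁆ ^ k * v₀ ^ k)⁻¹ := by rw [e4.eq]
          _ = (v * ⁅g, v₀⁆ ^ k) * ((v₀ ^ k)⁻¹ * (⁅g, v₀⁆ ^ k)⁻¹) := by rw [mul_inv_rev]
          _ = (v * ⁅g, v₀⁆ ^ k) * ((⁅g, v₀⁆ ^ k)⁻¹ * (v₀ ^ k)⁻¹) := by
              rw [((e3.pow_pow k k).inv_inv).eq]
          _ = v * (v₀ ^ k)⁻¹ := by group
      · intro v hv
        have := V_center h (hgv v hv) hg
        rw [commutatorElement_def] at this
        rw [← this]
        group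
    -- elements of V (n - 3) and V 1
    have hcommZ3 : ∀ a ∈ V W (n - 3), ∀ v ∈ V W 1, ⁅a, v⁆ ∈ V W (n - 1) := by
      intro a ha v hv
      have := V_black h hp3 (i := n - 3) (by omega) (by omega) ha hv
      rwa [show n - 3 + 2 = n - 1 by omega] at this
    by_cases hZE : V W (n - 3) ≤ E
    · -- E = V (n - 3)
      have hEZ : E = V W (n - 3) := (Subgroup.eq_of_le_of_card_ge hZE (by rw [hcard, hZ3card])).symm
      have h4card : Nat.card (V W (n - 4)) = p ^ 4 := V_card h 4 (by omega)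
      obtain ⟨g, hg4, hgE⟩ : ∃ g ∈ V W (n - 4), g ∉ E := by
        by_contra hcon
        push Not at hcon
        have h1 : V W (n - 4) ≤ E := hcon
        have h2 := Subgroup.card_le_of_le h1
        rw [h4card, hcard] at h2
        have : p ^ 3 < p ^ 4 := Nat.pow_lt_pow_right hp1 (by norm_num)
        omega
      have hg1 : g ∈ V W 1 := V_anti h (by omega) hg4
      have hgS := V_le _ hg4
      obtain ⟨v₀, hv₀E, hv₀, hgen, hz2⟩ := hyps g hgS hgE (by
        intro v hv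
        rw [← commutatorElement_inv]
        exact Subgroup.inv_mem _ (hcommZ3 v (by rw [← hEZ]; exact hv) g hg1))
      have hgn : g ∈ Subgroup.normalizer (E : Set Ω) := by
        apply mem_normalizer_of_le hle
        intro v hv
        rw [hEZ] at hv ⊢
        exact V_conj h hv hgS
      obtain ⟨-, hNcard, -⟩ := ess_ext hp3 hS hF hE
        (fun x y => Subtype.ext (hab x x.2 y y.2)) (fun x => Subtype.ext (hexp x x.2)) hgS hgn hv₀E hv₀
        hgen hz2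
      rw [hEZ, V_normalizerIn h, hScard, hZ3card] at hNcard
      have h1 : p * p ^ 3 < p ^ n := by
        calc p * p ^ 3 = p ^ 4 := by ring
          _ < p ^ n := Nat.pow_lt_pow_right hp1 (by omega)
      omega
    · obtain ⟨g, hg3, hgE⟩ := SetLike.not_le_iff_exists.1 hZE
      have hgS := V_le _ hg3
      obtain ⟨v₀, hv₀E, hv₀, hgen, hz2⟩ := hyps g hgS hgE (fun v hv => hcommZ3 g hg3 v (hEV hv))
      have hZN : V W (n - 3) ≤ normalizerIn S E := by
        intro z hz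
        exact mem_normalizerIn_of_comm hle (V_le _ hz) (fun v hv => hZ1E (hcommZ3 z hz v (hEV hv)))
      obtain ⟨-, -, hRcard, hcR, -, τ, hτ, hττ, hτc, hτR, hτE⟩ := exists_tau hS h hp3 hn hF hE hab hexp hcard hZN
        hg3 hv₀E hv₀ hgen hz2
      obtain ⟨c, hc⟩ : ∃ c, c = g * v₀ * g⁻¹ * v₀⁻¹ := ⟨_, rfl⟩
      rw [← hc] at hcR hτc hτR
      have hcZ1 : c ∈ V W (n - 1) := by
        have := hcommZ3 g hg3 v₀ (hEV hv₀E)
        rw [commutatorElement_def, ← hc] at this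
        exact this
      have hc1 : c ≠ 1 := by
        rw [hc]
        intro hh
        apply hv₀
        exact mul_inv_eq_one.1 hh
      -- τ is trivial on Z3 / Z1
      have hodd : Odd p := hp.out.odd_of_ne_two (by omega)
      have hτ1 : ∀ x : V W (n - 3), (x : Ω)⁻¹ * (τ x : Ω) ∈ V W (n - 1) := by
        intro x
        obtain ⟨r, hr⟩ : ∃ r : V W (n - 3), r = x⁻¹ * τ x := ⟨_, rfl⟩
        have hrE : (r : Ω) ∈ E := by
          have e : (r : Ω) = (τ x : Ω) * (x : Ω)⁻¹ := by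
            rw [hr, Subgroup.coe_mul, Subgroup.coe_inv]
            exact hZ3ab _ (Subgroup.inv_mem _ x.2) _ (τ x).2
          rw [e]
          exact hτE x
        obtain ⟨k, hk⟩ := hτR r hrE
        have e1 : τ x = x * r := by rw [hr]; group
        have e2 : x = x * r * τ r := by
          conv_lhs => rw [← hττ x, e1, map_mul, e1]
        have e3 : r * τ r = 1 := by
          rw [mul_assoc] at e2
          exact (mul_eq_left.1 e2.symm)
        have e4 : (r : Ω) * ((r : Ω) * c ^ k) = 1 := by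
          have := congrArg Subtype.val e3
          rw [Subgroup.coe_mul, hk] at this
          exact this
        have e5 : (r : Ω) ^ 2 = (c ^ k)⁻¹ := by
          rw [pow_two]
          exact eq_inv_of_mul_eq_one_left (by rw [mul_assoc]; exact e4)
        have e6 : (r : Ω) ^ 2 ∈ V W (n - 1) := by
          rw [e5]
          exact Subgroup.inv_mem _ (Subgroup.pow_mem _ hcZ1 k)
        obtain ⟨m, hm⟩ := hodd
        have e7 : (r : Ω) = ((r : Ω) ^ 2) ^ (m + 1) := by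
          have e8 : ((r : Ω) ^ 2) ^ (m + 1) = (r : Ω) ^ p * r := by
            rw [← pow_mul, ← pow_succ, hm]
            congr 1
          rw [e8, hexp _ hrE, one_mul]
        have e9 : (r : Ω) = (x : Ω)⁻¹ * (τ x : Ω) := by rw [hr]; rfl
        rw [← e9, e7]
        exact Subgroup.pow_mem _ e6 _
      exact finA τ hτ hττ c hcZ1 hc1 hτc (fun x _ => hτ1 x) (fun x => hZ12 (hτ1 x))
  · -- Case B
    have hEC : E ≤ C h := (le_or_le h hp3 hle hab
      (by rw [hcard]; exact Nat.pow_lt_pow_right hp1 (by norm_num))).resolve_left hEV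
    have hne : h.Ksub (n - 2) ≠ W 1 := by
      intro heq
      apply hEV
      intro x hx
      have := hEC hx
      rw [C, heq] at this
      exact this
    have hneC : ¬ V W 1 ≤ C h := by
      intro hle1
      apply hne
      apply h.eq_W1 _ (h.Ksub_ne_top' (by omega) (by omega))
      intro x hx
      obtain ⟨y, hy, hyx⟩ := hle1 ⟨x, hx, rfl⟩
      have : y = x := Subtype.ext hyx
      rwa [← this]
    have hev := parity h hp3 hne
    have hn6 : 6 ≤ n := by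
      obtain ⟨m, hm⟩ := hev
      omega
    have hZ2E : V W (n - 2) ≤ E := by
      intro z hz
      apply hcentE z (V_le _ hz)
      intro y hy
      exact ((mem_C h).1 (hEC hy)).2 z hz
    have hZ3E : ¬ V W (n - 3) ≤ E := by
      intro hZE
      apply hEV
      have hEZ : V W (n - 3) = E := Subgroup.eq_of_le_of_card_ge hZE (by rw [hcard, hZ3card])
      rw [← hEZ]
      exact V_anti h (by omega)
    obtain ⟨g, hg3, hgE⟩ := SetLike.not_le_iff_exists.1 hZ3E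
    have hgS := V_le _ hg3
    obtain ⟨v₀, hv₀E, hv₀⟩ := hmoves g hgS hgE
    have hcommZ3 : ∀ a ∈ V W (n - 3), ∀ v ∈ S, ⁅a, v⁆ ∈ V W (n - 2) := by
      intro a ha v hv
      have := V_comm_S h ha hv
      rwa [show n - 3 + 1 = n - 2 by omega] at this
    have hgZ2 : ∀ z ∈ V W (n - 2), g * z * g⁻¹ = z := by
      intro z hz
      rw [hZ3ab g hg3 z (hZ23 hz), mul_inv_cancel_right]
    have hv₀Z2 : v₀ ∉ V W (n - 2) := fun hh => hv₀ (hgZ2 v₀ hh)
    have hZ2idx : (V W (n - 2)).relIndex E = p := by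
      have h1 := card_mul_relIndex hZ2E
      rw [hcard, hZ2card] at h1
      exact Nat.eq_of_mul_eq_mul_left (pow_pos hpp 2) (by rw [h1]; ring)
    have hgen : ∀ v ∈ E, ∃ k : ℕ, g * (v * (v₀ ^ k)⁻¹) * g⁻¹ = v * (v₀ ^ k)⁻¹ := by
      intro v hv
      obtain ⟨k, hk⟩ := exists_pow_of_relIndex hZ2idx (fun x hx a ha => V_conj h ha (hle hx))
        hv₀E hv₀Z2 v hv
      exact ⟨k, hgZ2 _ hk⟩
    have hz2 : ∀ v ∈ E, g * (g * v * g⁻¹ * v⁻¹) * g⁻¹ = g * v * g⁻¹ * v⁻¹ := by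
      intro v hv
      apply hgZ2
      rw [← commutatorElement_def]
      exact hcommZ3 g hg3 v (hle hv)
    have hZN : V W (n - 3) ≤ normalizerIn S E := by
      intro z hz
      exact mem_normalizerIn_of_comm hle (V_le _ hz) (fun v hv => hZ2E (hcommZ3 z hz v (hle hv)))
    obtain ⟨hNcard, hNdec, hRcard, hcR, hcommN, τ, hτ, hττ, hτc, hτR, hτE⟩ := exists_tau hS h hp3 hn hF hE hab
      hexp hcard hZN hg3 hv₀E hv₀ hgen hz2
    obtain ⟨c, hc⟩ : ∃ c, c = g * v₀ * g⁻¹ * v₀⁻¹ := ⟨_, rfl⟩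
    rw [← hc] at hcR hτc hτR hcommN
    have hc1 : c ≠ 1 := by
      rw [hc]
      intro hh
      apply hv₀
      exact mul_inv_eq_one.1 hh
    have hRZ2 : E ⊓ V W (n - 3) = V W (n - 2) := by
      have hfR : Finite (E ⊓ V W (n - 3) : Subgroup Ω) := finite_of_le (inf_le_left.trans hle)
      symm
      apply Subgroup.eq_of_le_of_card_ge (le_inf hZ2E hZ23)
      rw [hRcard, hZ2card]
    have hcZ2 : c ∈ V W (n - 2) := by rw [← hRZ2]; exact hcR
    have hcZ3 : c ∈ V W (n - 3) := hZ23 hcZ2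
    have hτR2 : ∀ x : V W (n - 3), (x : Ω) ∈ V W (n - 2) → (τ x : Ω) ∈ V W (n - 2) := by
      intro x hx
      obtain ⟨k, hk⟩ := hτR x (hZ2E hx)
      rw [hk]
      exact Subgroup.mul_mem _ hx (Subgroup.pow_mem _ hcZ2 k)
    have hτ3 : ∀ x : V W (n - 3), (x : Ω)⁻¹ * (τ x : Ω) ∈ V W (n - 2) := by
      intro x
      have e : (x : Ω)⁻¹ * (τ x : Ω) = (τ x : Ω) * (x : Ω)⁻¹ :=
        hZ3ab _ (Subgroup.inv_mem _ x.2) _ (τ x).2
      rw [← hRZ2]
      refine Subgroup.mem_inf.2 ⟨by rw [e]; exact hτE x, ?_⟩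
      exact Subgroup.mul_mem _ (Subgroup.inv_mem _ x.2) (τ x).2
    by_cases hcZ1 : c ∈ V W (n - 1)
    · -- signs as in case A
      refine finA τ hτ hττ c hcZ1 hc1 hτc ?_ hτ3
      intro x hx
      obtain ⟨k, hk⟩ := hτR x (hZ2E hx)
      rw [hk, inv_mul_cancel_left]
      exact Subgroup.pow_mem _ hcZ1 k
    have hcE : c ∈ E := hZ2E hcZ2
    have hcp : c ^ p = 1 := hexp c hcE
    by_cases hτ1 : ∀ x : V W (n - 3), (x : Ω) ∈ V W (n - 1) → (τ x : Ω) ∈ V W (n - 1)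
    · -- signs +, -, +
      obtain ⟨σ, hσ, hσe⟩ := exists_sigma hS h hF hτ hττ hτR2 hτ1
      obtain ⟨hcS', hcW⟩ := mem_V.1 hcZ2
      have e1 : Eig W σ (n - 1) 1 := by
        intro x hx
        have hx1 : (x : Ω) ∈ V W (n - 1) := mem_V.2 ⟨x.2, hx⟩
        have hx3 : (x : Ω) ∈ V W (n - 3) := hZ23 (hZ12 hx1)
        obtain ⟨k, hk⟩ := hτR ⟨x, hx3⟩ (hZ2E (hZ12 hx1))
        have h1 := hτ1 ⟨x, hx3⟩ hx1
        rw [hk] at h1
        have h2 : c ^ k ∈ V W (n - 1) := by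
          have := Subgroup.mul_mem _ (Subgroup.inv_mem _ hx1) h1
          rwa [inv_mul_cancel_left] at this
        have h3 : c ^ k = 1 := by
          by_contra hck
          apply hcZ1
          have hnd : ¬ (p : ℤ) ∣ (k : ℤ) := by
            intro hd
            apply hck
            obtain ⟨m, hm⟩ := Int.natCast_dvd_natCast.1 hd
            rw [hm, pow_mul, hcp, one_pow]
          have hco : IsCoprime (k : ℤ) (p : ℤ) := by
            rw [isCoprime_comm, Prime.coprime_iff_not_dvd (Nat.prime_iff_prime_int.1 hp.out)]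
            exact hnd
          obtain ⟨a, b, hab'⟩ := hco
          have e : c = (c ^ k) ^ a * (c ^ p) ^ b := by
            rw [← zpow_natCast c k, ← zpow_natCast c p, ← zpow_mul, ← zpow_mul, ← zpow_add,
              mul_comm (k : ℤ) a, mul_comm (p : ℤ) b, hab', zpow_one]
          rw [e, hcp, one_zpow, mul_one]
          exact Subgroup.zpow_mem _ h2 a
        have e : (x ^ (1 : ℤ))⁻¹ * σ x = 1 := by
          apply Subtype.ext
          rw [zpow_one, Subgroup.coe_mul, Subgroup.coe_inv, hσe x hx3 x.2, hk, h3, mul_one]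
          exact inv_mul_cancel _
        rw [e]
        exact one_mem _
      have e2 : Eig W σ (n - 2) (-1) := by
        refine eig_of_mem h hσ (by omega) hcW ?_ ?_
        · rw [show n - 2 + 1 = n - 1 by omega]
          intro hh
          exact hcZ1 (mem_V.2 ⟨hcS', hh⟩)
        · have e : ((⟨c, hcS'⟩ : S) ^ (-1 : ℤ))⁻¹ * σ ⟨c, hcS'⟩ = 1 := by
            apply Subtype.ext
            rw [zpow_neg_one, inv_inv, Subgroup.coe_mul, hσe c hcZ3 hcS', hτc ⟨c, hcZ3⟩ rfl]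
            exact mul_inv_cancel c
          rw [e]
          exact one_mem _
      have e3 : Eig W σ (n - 3) 1 := by
        intro x hx
        rw [zpow_one, show n - 3 + 1 = n - 2 by omega]
        have hx2 : (x : Ω) ∈ V W (n - 3) := mem_V.2 ⟨x.2, hx⟩
        have h1 := hτ3 ⟨x, hx2⟩
        rw [← hσe x hx2 x.2] at h1
        obtain ⟨h2, h3⟩ := mem_V.1 h1
        exact h3
      exact contraB h hp3 hn hσ hne e1 e2 e3
    · -- `τ` moves `Z_1`
      push Not at hτ1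
      obtain ⟨z₁, hz₁, hz₁'⟩ := hτ1
      have hc'Z2 : (τ z₁ : Ω) ∈ V W (n - 2) := hτR2 z₁ (hZ12 hz₁)
      have hZ12idx : (V W (n - 1)).relIndex (V W (n - 2)) = p := by
        have h1 := card_mul_relIndex hZ12
        rw [hZ1card, hZ2card] at h1
        exact Nat.eq_of_mul_eq_mul_left hpp (by rw [h1]; ring)
      obtain ⟨k, hk⟩ := exists_pow_of_relIndex hZ12idx (fun x hx a ha => V_conj h ha (V_le _ hx))
        hc'Z2 hz₁' c hcZ2
      obtain ⟨s, hs, hsc⟩ := exists_conj_eq h hcZ2 hcZ1 (Subgroup.inv_mem _ hk)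
      have hsc' : s * c * s⁻¹ = (τ z₁ : Ω) ^ k := by
        rw [hsc]
        have e : c * ((τ z₁ : Ω) ^ k)⁻¹ * c = c * (c * ((τ z₁ : Ω) ^ k)⁻¹) :=
          V_center h hk (V_le _ hcZ2)
        have e2 : ((τ z₁ : Ω) ^ k)⁻¹ * c = c * ((τ z₁ : Ω) ^ k)⁻¹ := by
          rw [mul_assoc] at e
          exact mul_left_cancel e
        rw [← e2]
        group
      -- the map β
      have hτHom := (mem_autGroup_iff F (V_le (n - 3)) τ).1 hτ
      have hconjHom := F.conj_mem (P := V W (n - 2)) (g := s) (V_le _) hs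
      obtain ⟨β, hβ, hβe⟩ := exists_comp hconjHom hτHom (fun x => V_conj h (hZ23 x.2) hs)
      have hβe' : ∀ (x : V W (n - 2)), β x = (τ ⟨s * x * s⁻¹, V_conj h (hZ23 x.2) hs⟩ : Ω) := hβe
      have hβr : β.range = V W (n - 2) := by
        apply range_eq_of_mapsTo hβ
        intro x
        rw [hβe']
        exact hτR2 _ (V_conj h x.2 hs)
      have hβc : β ⟨c, hcZ2⟩ ∈ V W (n - 1) := by
        rw [hβe']
        have e : (⟨s * c * s⁻¹, V_conj h (hZ23 hcZ2) hs⟩ : V W (n - 3)) = (τ z₁) ^ k :=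
          Subtype.ext (by rw [Subgroup.coe_pow]; exact hsc')
        have e2 : τ (⟨s * c * s⁻¹, V_conj h (hZ23 hcZ2) hs⟩ : V W (n - 3)) = z₁ ^ k := by
          rw [e, map_pow, hττ]
        show (τ (⟨s * c * s⁻¹, V_conj h (hZ23 hcZ2) hs⟩ : V W (n - 3)) : Ω) ∈ _
        rw [e2, Subgroup.coe_pow]
        exact Subgroup.pow_mem _ hz₁ k
      have hrec := isReceptive_of_isFullyNormalized hS hF (V_fullyNormalized h F (n - 2))
      obtain ⟨ψ', hψ', hψ'e⟩ := hrec.2 _ β hβ hβr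
      have hNC : normalizerIn S E ≤ extender S (V W (n - 2)) β := by
        refine le_trans ?_ (centralizerIn_le_extender S (V W (n - 2)) β)
        intro x hx
        refine Subgroup.mem_inf.2 ⟨hx.1, ?_⟩
        rw [Subgroup.mem_centralizer_iff]
        intro z hz
        obtain ⟨i, e, he, rfl⟩ := hNdec x hx
        have c1 : Commute z (g ^ i) := (show Commute z g from hZ3ab z (hZ23 hz) g hg3).zpow_right i
        have c2 : Commute z e := hab z (hZ2E hz) e he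
        exact (c1.mul_right c2).eq
      have hEN : E ≤ normalizerIn S E := le_normalizerIn hle
      obtain ⟨ψ, hψdef⟩ : ∃ ψ : normalizerIn S E →* Ω, ψ = ψ'.comp (Subgroup.inclusion hNC) := ⟨_, rfl⟩
      have hψ : ψ ∈ F.Hom (normalizerIn S E) := by rw [hψdef]; exact restrict_mem hψ' hNC
      have hψe : ∀ (x : Ω) (hx : x ∈ V W (n - 2)), ψ ⟨x, hEN (hZ2E hx)⟩ = β ⟨x, hx⟩ := by
        intro x hx
        rw [hψdef]
        exact hψ'e x hx _
      have hφ := restrict_mem hψ hEN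
      obtain ⟨φ, hφdef⟩ : ∃ φ : E →* Ω, φ = ψ.comp (Subgroup.inclusion hEN) := ⟨_, rfl⟩
      rw [← hφdef] at hφ
      have hφe : ∀ (x : Ω) (hx : x ∈ E), ψ ⟨x, hEN hx⟩ = φ ⟨x, hx⟩ := by
        intro x hx
        rw [hφdef]
        rfl
      obtain ⟨Es, hEs⟩ : ∃ Es, Es = φ.range := ⟨_, rfl⟩
      have hconj : F.IsConj E Es := ⟨φ, hφ, hEs.symm⟩
      have hEsS : Es ≤ S := isConj_le_right hconj
      have hNEs : Nat.card (normalizerIn S Es) ≤ Nat.card (normalizerIn S E) :=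
        (ess_normalizedIn hE).2 Es hconj
      have hfNs : Finite (normalizerIn S Es) := finite_of_le inf_le_left
      have hψN : ∀ x : normalizerIn S E, ψ x ∈ normalizerIn S Es :=
        fun x => apply_mem_normalizerIn hψ hEN inf_le_right hEs.symm hφe x
      have hZ2Es : V W (n - 2) ≤ Es := by
        intro x hx
        rw [← hβr] at hx
        obtain ⟨y, rfl⟩ := hx
        rw [hEs]
        exact ⟨⟨y, hZ2E y.2⟩, by rw [← hφe, hψe y y.2]⟩
      have hcommNs : ∀ y ∈ normalizerIn S Es, ∀ w ∈ Es, ⁅y, w⁆ ∈ V W (n - 1) := by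
        intro y hy w hw
        obtain ⟨x, hx, rfl⟩ := exists_preimage_of_card (F.injective_of_mem hψ)
          (le_refl (normalizerIn S E)) (fun x hx => hψN _) hNEs y hy
        rw [hEs] at hw
        obtain ⟨v, rfl⟩ := hw
        have h1 := hcommN x hx v v.2
        obtain ⟨i, hi⟩ := Subgroup.mem_zpowers_iff.1 h1
        have e1 : ⁅ψ ⟨x, hx⟩, φ v⁆ = (β ⟨c, hcZ2⟩) ^ i := by
          rw [← hφe v v.2, ← hψe c hcZ2, ← map_commutatorElement, ← map_zpow]
          congr 1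
          apply Subtype.ext
          rw [Subgroup.coe_zpow]
          show x * (v : Ω) * x⁻¹ * (v : Ω)⁻¹ = c ^ i
          exact hi.symm
        show ⁅ψ ⟨x, hx⟩, φ v⁆ ∈ _
        rw [e1]
        exact Subgroup.zpow_mem _ hβc i
      have hZ3Ns : V W (n - 3) ≤ normalizerIn S Es := by
        intro z hz
        exact mem_normalizerIn_of_comm hEsS (V_le _ hz) (fun v hv => hZ2Es (hcommZ3 z hz v (hEsS hv)))
      have hEs1 : Es ≤ V W 1 := by
        intro w hw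
        apply V_of_K h hp3 (i := n - 3) (by omega) (by omega) (hEsS hw)
        intro a ha
        rw [show n - 3 + 2 = n - 1 by omega]
        exact hcommNs a (hZ3Ns ha) w hw
      have hEsC : Es ≤ C h := by
        intro w hw
        rw [mem_C]
        refine ⟨hEsS hw, ?_⟩
        intro a ha
        have ha' := ha
        rw [← hβr] at ha'
        obtain ⟨b, rfl⟩ := ha'
        rw [hEs] at hw
        obtain ⟨v, rfl⟩ := hw
        rw [← hψe b b.2, ← hφe v v.2, ← map_mul, ← map_mul]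
        congr 1
        apply Subtype.ext
        exact hab b (hZ2E b.2) v v.2
      have hV5 : V W (n - 5) ≤ normalizerIn S Es := by
        intro a ha
        apply mem_normalizerIn_of_comm hEsS (V_le _ ha)
        intro v hv
        have hv2 : v ∈ V W 2 := inf_eq h hneC (hEs1 hv) (hEsC hv)
        have := V_deg h hp3 (i := n - 5) (j := 2) (by omega) (by omega) (by omega) ha hv2
        rw [show n - 5 + 2 + 1 = n - 2 by omega] at this
        exact hZ2Es this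
      have h5 := Subgroup.card_le_of_le hV5
      rw [V_card h 5 (by omega)] at h5
      have h6 : p ^ 4 < p ^ 5 := Nat.pow_lt_pow_right hp1 (by norm_num)
      omega

end Cfsg.Agent.H797.MaxEss
end
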