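import Cfsg.Agent.H467.MaxClassBlackburn
set_option linter.all false

/-!
# p-groups of maximal class: parity of exceptional groups, eigenvalues of automorphisms

* `MC.parity` : if the last two-step centralizer `C_P(W (n - 2))` is not `W 1`, then `n` is even.
* `Eig` : eigenvalues of an automorphism on the factors of the chain, `contraA`, `contraB`.
-/

set_option autoImplicit false
set_option linter.unusedSectionVars false

namespace Cfsg.Agent.H797.MaxParity

open Subgroup Cfsg.Agent.H467.MaxClass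
open scoped commutatorElement

universe u

variable {P : Type u} [Group P] {p n : ℕ} {W : ℕ → Subgroup P}

theorem Ksub_eq [Finite P] (h : MC P p n W) [hp : Fact p.Prime] (hp3 : 3 ≤ p) {i : ℕ} (h1 : 1 ≤ i)
    (hi : i + 3 ≤ n) : h.Ksub i = W 1 := by
  apply h.eq_W1
  · intro x hx w hw
    rcases Nat.lt_or_ge i 2 with h4 | h4
    · have : i = 1 := by omega
      subst this
      exact h.comm_self hw hx
    · exact h.blackburn hp3 i h4 hi (commutator_mem_commutator hw hx)
  · exact h.Ksub_ne_top' h1 (by omega)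

theorem Ksub_two (h : MC P p n W) [hp : Fact p.Prime] : h.Ksub 2 = W 1 := by
  have h4 := h.four_le
  apply h.eq_W1
  · intro x hx w hw
    exact h.two (commutator_mem_commutator hw hx)
  · exact h.Ksub_ne_top' (by omega) (by omega)

theorem W1_ne_top (h : MC P p n W) [hp : Fact p.Prime] : W 1 ≠ ⊤ := by
  intro htop
  have := h.W1_index
  rw [htop, Subgroup.index_top] at this
  exact hp.out.one_lt.ne this

/-- `t s a i` has exact depth. -/
theorem t_exact [Finite P] (h : MC P p n W) [hp : Fact p.Prime] (hp3 : 3 ≤ p) {s a : P}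
    (hs : s ∉ W 1) (ha : a ∈ W 1) (ha' : a ∉ W 2) (i : ℕ) (hi : i + 3 ≤ n) :
    t s a i ∉ W (i + 2) := by
  induction i with
  | zero => exact ha'
  | succ i ih =>
    intro hmem
    have h1 := ih (by omega)
    have h2 := (h.mem_K_iff (i := i + 1) (by omega) (h.t_mem (s := s) ha i) h1 s).mpr hmem
    have h3 : s ∈ h.Ksub (i + 1) := h2
    rw [Ksub_eq h hp3 (by omega) (by omega)] at h3
    exact hs h3

/-- **Parity**: exceptional groups of maximal class have order an even power of `p`. -/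
theorem parity [Finite P] (h : MC P p n W) [hp : Fact p.Prime] (hp3 : 3 ≤ p)
    (hne : h.Ksub (n - 2) ≠ W 1) : Even n := by
  have h4 := h.four_le
  rcases Nat.even_or_odd n with hev | hodd
  · exact hev
  exfalso
  apply hne
  apply h.eq_W1 _ (h.Ksub_ne_top' (by omega) (by omega))
  obtain ⟨s, -, hs⟩ := h.ne_succ (i := 0) (by omega)
  rw [zero_add] at hs
  obtain ⟨a, ha, ha'⟩ := h.ne_succ (i := 1) (by omega)
  have hpos : ∀ j, 2 ≤ j → j < n - 2 → ⁅W j, W 1⁆ ≤ W (j + 2) :=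
    fun j h2 hj => h.blackburn hp3 j h2 (by omega)
  have hdeg := h.deg hpos
  have ht := h.t_mem (s := s) ha
  -- the relation
  have R : ∀ i j, i + j + 4 = n → ⁅t s a (i + 1), t s a j⁆ * ⁅t s a i, t s a (j + 1)⁆ = 1 := by
    intro i j hij
    have h1 := h.deriv (i := i + 1) (j := j + 1) (by omega) (by omega) (ht i) (ht j) s
    rw [show i + 1 + (j + 1) + 2 = n by omega, h.bot, mem_bot, inv_mul_eq_one] at h1
    have h2 : ⁅⁅t s a i, t s a j⁆, s⁆ ∈ W n := by
      have h3 := hdeg (j + 1) (i + 1) (by omega) (by omega) (by omega)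
        (commutator_mem_commutator (ht i) (ht j))
      have h5 := h.comm_mem (x := s) h3
      rwa [show i + 1 + (j + 1) + 1 + 1 = n by omega] at h5
    rw [h.bot, mem_bot] at h2
    rw [h2] at h1
    exact h1.symm
  obtain ⟨m, hm⟩ := hodd
  -- n = 2 m + 1, pairs (i, j) with i + j + 2 = n - 1 = 2 m, i.e. i + j = 2 m - 2
  have key : ∀ r, r + 1 ≤ m → ⁅t s a (m - 1 + r), t s a (m - 1 - r)⁆ = 1 := by
    intro r
    induction r with
    | zero => intro _; rw [add_zero, Nat.sub_zero, commutatorElement_self]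
    | succ r ih =>
      intro hr
      have h1 := ih (by omega)
      have h2 := R (m - 1 + r) (m - 1 - (r + 1)) (by omega)
      rw [show m - 1 - (r + 1) + 1 = m - 1 - r by omega, h1, mul_one] at h2
      exact h2
  have hlast := key (m - 1) (by omega)
  rw [show m - 1 + (m - 1) = n - 3 by omega, Nat.sub_self] at hlast
  have hs2 : t s a (n - 3) ∈ W (n - 2) := by
    have := ht (n - 3)
    rwa [show n - 3 + 1 = n - 2 by omega] at this
  have hs3 : t s a (n - 3) ∉ W (n - 2 + 1) := by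
    have := t_exact h hp3 hs ha ha' (n - 3) (by omega)
    rwa [show n - 3 + 2 = n - 2 + 1 by omega] at this
  have haK : a ∈ h.Ksub (n - 2) := by
    refine (h.mem_K_iff (i := n - 2) (by omega) hs2 hs3 a).mpr ?_
    have e : ⁅t s a (n - 3), a⁆ = 1 := hlast
    rw [e]
    exact one_mem _
  intro x hx
  obtain ⟨c, hc⟩ := h.exists_zpow (i := 1) (by omega) ha ha' hx
  have h3 : x = a ^ c * ((a ^ c)⁻¹ * x) := by group
  rw [h3]
  exact mul_mem (zpow_mem haK c) (h.W2_le_Ksub (n - 2) hc)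

/-- commutators with powers when the commutator is central -/
theorem comm_zpow {Q : Type*} [Group Q] {x y : Q} (hc : ∀ z, Commute ⁅x, y⁆ z) (k l : ℤ) :
    ⁅x ^ k, y ^ l⁆ = ⁅x, y⁆ ^ (k * l) := by
  have h1 : ∀ l : ℤ, ⁅x, y ^ l⁆ = ⁅x, y⁆ ^ l := by
    intro l
    have e : x * y * x⁻¹ = ⁅x, y⁆ * y := by rw [commutatorElement_def]; group
    have e2 : x * y ^ l * x⁻¹ = ⁅x, y⁆ ^ l * y ^ l := by
      rw [← (hc y).mul_zpow, ← e, conj_zpow]
    rw [commutatorElement_def, e2]
    group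
  have h2 : ⁅x ^ k, y ^ l⁆ = ⁅x, y ^ l⁆ ^ k := by
    have hc' : ∀ z, Commute ⁅x, y ^ l⁆ z := by
      intro z
      rw [h1]
      exact (hc z).zpow_left l
    have e : y ^ l * x * (y ^ l)⁻¹ = ⁅x, y ^ l⁆⁻¹ * x := by rw [commutatorElement_def]; group
    have e2 : y ^ l * x ^ k * (y ^ l)⁻¹ = (⁅x, y ^ l⁆⁻¹) ^ k * x ^ k := by
      rw [← (hc' x).inv_left.mul_zpow, ← e, conj_zpow]
    have e3 : ⁅x ^ k, y ^ l⁆ = x ^ k * (y ^ l * x ^ k * (y ^ l)⁻¹)⁻¹ := by
      rw [commutatorElement_def]; group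
    rw [e3, e2, mul_inv_rev, mul_inv_cancel_left, inv_zpow, inv_inv]
  rw [h2, h1, ← zpow_mul, mul_comm]

section Eig

variable (h : MC P p n W)

/-- the terms of the chain are characteristic -/
theorem map_mem (h : MC P p n W) [hp : Fact p.Prime] (σ : P →* P) (hσ : Function.Surjective σ)
    (i : ℕ) {x : P} (hx : x ∈ W i) : σ x ∈ W i := by
  have hge : ∀ i, 2 ≤ i → (W i).map σ = W i := by
    intro i hi
    induction i, hi using Nat.le_induction with
    | base => rw [← h.comm_top, map_commutator, Subgroup.map_top_of_surjective _ hσ]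
    | succ i hi ih =>
      rw [← h.comm i hi, map_commutator, Subgroup.map_top_of_surjective _ hσ, ih]
  have hge' : ∀ i, 2 ≤ i → ∀ x ∈ W i, σ x ∈ W i := by
    intro i hi x hx
    rw [← hge i hi]
    exact ⟨x, hx, rfl⟩
  match i with
  | 0 => rw [h.zero]; trivial
  | 1 =>
    rw [← Ksub_two h] at hx ⊢
    intro w hw
    rw [← hge 2 le_rfl] at hw
    obtain ⟨v, hv, rfl⟩ := hw
    rw [← map_commutatorElement]
    exact hge' _ (by omega) _ (hx v hv)
  | (j + 2) => exact hge' _ (by omega) _ hx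

/-- `σ` acts on `W i / W (i + 1)` as the `k`-th power. -/
def Eig (W : ℕ → Subgroup P) (σ : P → P) (i : ℕ) (k : ℤ) : Prop :=
  ∀ x ∈ W i, (x ^ k)⁻¹ * σ x ∈ W (i + 1)

theorem quot_comm (h : MC P p n W) {i : ℕ} {x y : P} (hx : x ∈ W i) :
    haveI := h.normal (i + 1)
    Commute (QuotientGroup.mk' (W (i + 1)) x) (QuotientGroup.mk' (W (i + 1)) y) := by
  have := h.normal (i + 1)
  rw [← commutatorElement_eq_one_iff_commute, ← map_commutatorElement, QuotientGroup.mk'_apply,
    QuotientGroup.eq_one_iff]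
  exact h.comm_mem hx

theorem eig_of_mem (h : MC P p n W) [hp : Fact p.Prime] {σ : P →* P}
    (hσ : Function.Surjective σ) {i : ℕ} (hi : i < n) {x : P} (hx : x ∈ W i) (hx' : x ∉ W (i + 1))
    {k : ℤ} (hk : (x ^ k)⁻¹ * σ x ∈ W (i + 1)) : Eig W σ i k := by
  intro y hy
  obtain ⟨m, hm⟩ := h.exists_zpow hi hx hx' hy
  have hn := h.normal (i + 1)
  have h1 : y = x ^ m * ((x ^ m)⁻¹ * y) := by group
  have h2 := map_mem h σ hσ (i + 1) hm
  set q : P →* P ⧸ W (i + 1) := QuotientGroup.mk' _ with hq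
  have hker : ∀ g, g ∈ W (i + 1) ↔ q g = 1 := by
    intro g
    rw [hq, QuotientGroup.mk'_apply, QuotientGroup.eq_one_iff]
  rw [hker] at hk hm h2 ⊢
  rw [map_mul, map_inv, inv_mul_eq_one] at hk hm
  rw [map_mul, map_inv, inv_mul_eq_one]
  rw [map_mul, map_mul, map_inv, map_inv, inv_mul_eq_one, map_zpow, map_zpow, ← hk] at h2
  rw [← h2, map_zpow, ← hm, map_zpow, map_zpow, ← zpow_mul, ← zpow_mul, mul_comm]

theorem eig_exists (h : MC P p n W) [hp : Fact p.Prime] {σ : P →* P}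
    (hσ : Function.Surjective σ) {i : ℕ} (hi : i < n) : ∃ k : ℤ, Eig W σ i k := by
  obtain ⟨x, hx, hx'⟩ := h.ne_succ hi
  obtain ⟨k, hk⟩ := h.exists_zpow hi hx hx' (map_mem h σ hσ i hx)
  exact ⟨k, eig_of_mem h hσ hi hx hx' hk⟩

theorem eig_unique (h : MC P p n W) [hp : Fact p.Prime] {σ : P →* P} {i : ℕ} (hi : i < n) {k l : ℤ}
    (hk : Eig W σ i k) (hl : Eig W σ i l) : (k : ZMod p) = l := by
  obtain ⟨x, hx, hx'⟩ := h.ne_succ hi
  have h1 := hk x hx
  have h2 := hl x hx
  have h3 : x ^ (k - l) ∈ W (i + 1) := by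
    have h4 := (W (i + 1)).mul_mem h1 ((W (i + 1)).inv_mem h2)
    have e : (x ^ k)⁻¹ * σ x * ((x ^ l)⁻¹ * σ x)⁻¹ = x ^ (l - k) := by
      rw [zpow_sub, ← zpow_neg]
      have : x ^ (-k) * σ x * ((x ^ l)⁻¹ * σ x)⁻¹ = x ^ (-k) * x ^ l := by group
      rw [this, ← zpow_add, add_comm, zpow_add, zpow_neg]
    rw [e] at h4
    have h5 := (W (i + 1)).inv_mem h4
    rwa [← zpow_neg, neg_sub] at h5
  have hpx : x ^ p ∈ W (i + 1) := by
    have hn := h.normal (i + 1)
    have h4 := Subgroup.pow_relIndex_mem (H := W (i + 1)) (K := W i) hx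
    rw [h.relIndex i hi] at h4
    exact h4
  rw [← sub_eq_zero, ← Int.cast_sub, ZMod.intCast_zmod_eq_zero_iff_dvd]
  by_contra hnd
  have hco : IsCoprime (k - l) (p : ℤ) := by
    rw [isCoprime_comm, Prime.coprime_iff_not_dvd (Nat.prime_iff_prime_int.1 hp.out)]
    exact hnd
  obtain ⟨u, v, huv⟩ := hco
  apply hx'
  have e : x = (x ^ (k - l)) ^ u * (x ^ p) ^ v := by
    rw [← zpow_natCast, ← zpow_mul, ← zpow_mul, ← zpow_add, mul_comm (k - l) u, mul_comm (p : ℤ) v,
      huv, zpow_one]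
  rw [e]
  exact (W (i + 1)).mul_mem ((W (i + 1)).zpow_mem h3 u) ((W (i + 1)).zpow_mem hpx v)

/-- bilinearity -/
theorem eig_comm (h : MC P p n W) [hp : Fact p.Prime] {σ : P →* P}
    (hσ : Function.Surjective σ) {i : ℕ} (hi1 : 1 ≤ i) (hi : i + 1 < n) {k l : ℤ}
    (hk : Eig W σ i k) (hl : ∀ y, (y ^ l)⁻¹ * σ y ∈ h.Ksub i) : Eig W σ (i + 1) (k * l) := by
  obtain ⟨x, hx, hx'⟩ := h.ne_succ (i := i) (by omega)
  obtain ⟨y, hy⟩ : ∃ y, y ∉ h.Ksub i := by
    by_contra hcon
    push Not at hcon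
    exact h.Ksub_ne_top' hi1 hi (eq_top_iff.2 fun y _ => hcon y)
  have hxy : ⁅x, y⁆ ∉ W (i + 1 + 1) := fun hc =>
    hy ((h.mem_K_iff (by omega) hx hx' y).2 hc)
  have hxy' : ⁅x, y⁆ ∈ W (i + 1) := h.comm_mem hx
  apply eig_of_mem h hσ hi hxy' hxy
  have hn := h.normal (i + 1 + 1)
  set q : P →* P ⧸ W (i + 1 + 1) := QuotientGroup.mk' _ with hq
  have hker : ∀ g, g ∈ W (i + 1 + 1) ↔ q g = 1 := by
    intro g
    rw [hq, QuotientGroup.mk'_apply, QuotientGroup.eq_one_iff]
  have hcen : ∀ g ∈ W (i + 1), ∀ z, Commute (q g) z := by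
    intro g hg z
    obtain ⟨w, rfl⟩ := QuotientGroup.mk'_surjective _ z
    exact quot_comm h hg
  obtain ⟨x', hx'e⟩ : ∃ x', x' = (x ^ k)⁻¹ * σ x := ⟨_, rfl⟩
  obtain ⟨d, hd⟩ : ∃ d, d = (y ^ l)⁻¹ * σ y := ⟨_, rfl⟩
  have hx'W : x' ∈ W (i + 1) := by rw [hx'e]; exact hk x hx
  have hdK : d ∈ h.Ksub i := by rw [hd]; exact hl y
  have e1 : σ x = x ^ k * x' := by rw [hx'e]; group
  have e2 : σ y = y ^ l * d := by rw [hd]; group
  rw [hker, map_mul, map_inv, inv_mul_eq_one, map_zpow]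
  have e7 : σ ⁅x, y⁆ = ⁅x ^ k * x', y ^ l * d⁆ := by rw [map_commutatorElement σ, e1, e2]
  rw [e7, map_commutatorElement q (x ^ k * x'), map_mul, map_mul, map_zpow, map_zpow]
  have c1 : ∀ z, Commute (q x') z := hcen x' hx'W
  have c2 : Commute (q x ^ k) (q d) := by
    rw [← map_zpow, ← commutatorElement_eq_one_iff_commute, ← map_commutatorElement, ← hker]
    exact hdK _ ((W i).zpow_mem hx k)
  have e3 : ⁅q x ^ k * q x', q y ^ l * q d⁆ = ⁅q x ^ k, q y ^ l⁆ := by
    have e4 : ⁅q x ^ k * q x', q y ^ l * q d⁆ = ⁅q x ^ k, q y ^ l * q d⁆ := by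
      have e5 : ⁅q x ^ k * q x', q y ^ l * q d⁆ =
          q x ^ k * (q x' * (q y ^ l * q d)) * (q x')⁻¹ * (q x ^ k)⁻¹ * (q y ^ l * q d)⁻¹ := by
        rw [commutatorElement_def]; group
      rw [e5, (c1 _).eq, commutatorElement_def]
      group
    have e6 : ⁅q x ^ k, q y ^ l * q d⁆ = q x ^ k * q y ^ l * (q d * (q x ^ k)⁻¹) * (q d)⁻¹ * (q y ^ l)⁻¹ := by
      rw [commutatorElement_def]; group
    rw [e4, e6, c2.symm.inv_right.eq, commutatorElement_def]
    group
  rw [e3, comm_zpow, map_commutatorElement]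
  intro z
  rw [← map_commutatorElement]
  exact hcen _ hxy' z

theorem map_eq (h : MC P p n W) [hp : Fact p.Prime] (σ : P →* P) (hσ : Function.Surjective σ)
    (i : ℕ) (hi : 2 ≤ i) : (W i).map σ = W i := by
  induction i, hi using Nat.le_induction with
  | base => rw [← h.comm_top, map_commutator, Subgroup.map_top_of_surjective _ hσ]
  | succ i hi ih =>
    rw [← h.comm i hi, map_commutator, Subgroup.map_top_of_surjective _ hσ, ih]

theorem mem_Ksub_last (h : MC P p n W) {x : P} :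
    x ∈ h.Ksub (n - 2) ↔ ∀ w ∈ W (n - 2), w * x = x * w := by
  have h4 := h.four_le
  have e : W (n - 2 + 2) = ⊥ := by rw [show n - 2 + 2 = n by omega, h.bot]
  constructor
  · intro hx w hw
    have h1 := hx w hw
    rw [e, mem_bot, commutatorElement_eq_one_iff_mul_comm] at h1
    exact h1
  · intro hx w hw
    rw [e, mem_bot, commutatorElement_eq_one_iff_mul_comm]
    exact hx w hw

theorem Ksub_map (h : MC P p n W) [hp : Fact p.Prime] (σ : P →* P) (hσ : Function.Surjective σ)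
    {x : P} (hx : x ∈ h.Ksub (n - 2)) : σ x ∈ h.Ksub (n - 2) := by
  have h4 := h.four_le
  rw [mem_Ksub_last] at hx ⊢
  intro w hw
  rw [← map_eq h σ hσ (n - 2) (by omega)] at hw
  obtain ⟨v, hv, rfl⟩ := hw
  rw [← map_mul, hx v hv, map_mul]

theorem Ksub_index_dvd [Finite P] (h : MC P p n W) [hp : Fact p.Prime] : (h.Ksub (n - 2)).index ∣ p := by
  have h4 := h.four_le
  obtain ⟨x, hx, hx'⟩ := h.ne_succ (i := n - 2) (by omega)
  have hcen : ∀ y z : P, Commute ⁅x, y⁆ z := by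
    intro y z
    have h1 : ⁅x, y⁆ ∈ W (n - 1) := by
      have := h.comm_mem (x := y) hx
      rwa [show n - 2 + 1 = n - 1 by omega] at this
    rw [← commutatorElement_eq_one_iff_commute, ← mem_bot, ← h.bot]
    have := h.comm_mem (x := z) h1
    rwa [show n - 1 + 1 = n by omega] at this
  let f : P →* P := MonoidHom.mk' (fun y => ⁅x, y⁆) (by
    intro y z
    have e : ⁅x, y * z⁆ = ⁅x, y⁆ * (y * ⁅x, z⁆ * y⁻¹) := by
      simp only [commutatorElement_def]; group
    rw [e, ← (hcen z y).eq, mul_inv_cancel_right])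
  have hker : f.ker = h.Ksub (n - 2) := by
    ext y
    rw [MonoidHom.mem_ker]
    show ⁅x, y⁆ = 1 ↔ y ∈ MC.K W (n - 2)
    rw [h.mem_K_iff (i := n - 2) (by omega) hx hx' y, show n - 2 + 2 = n by omega, h.bot, mem_bot]
  have hr : f.range ≤ W (n - 1) := by
    rintro _ ⟨y, rfl⟩
    have := h.comm_mem (x := y) hx
    rwa [show n - 2 + 1 = n - 1 by omega] at this
  rw [← hker, Subgroup.index_ker]
  have h5 := Subgroup.card_dvd_of_le hr
  rwa [h.card_W 1 (by omega), pow_one] at h5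

theorem sup_eq_top [Finite P] (h : MC P p n W) [hp : Fact p.Prime] (hne : h.Ksub (n - 2) ≠ W 1) :
    W 1 ⊔ h.Ksub (n - 2) = ⊤ := by
  have h4 := h.four_le
  by_contra hcon
  have h1 := h.eq_W1 (H := W 1 ⊔ h.Ksub (n - 2)) le_sup_left hcon
  have h2 : h.Ksub (n - 2) ≤ W 1 := by rw [← h1]; exact le_sup_right
  apply hne
  rcases (Nat.dvd_prime hp.out).1 (Ksub_index_dvd h) with h3 | h3
  · exact absurd (Subgroup.index_eq_one.1 h3) (h.Ksub_ne_top' (by omega) (by omega))
  · have h5 := Subgroup.relIndex_mul_index h2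
    rw [h3, h.W1_index] at h5
    have h6 : (h.Ksub (n - 2)).relIndex (W 1) = 1 := by
      apply Nat.eq_of_mul_eq_mul_right hp.out.pos
      rw [h5, one_mul]
    exact le_antisymm h2 (Subgroup.relIndex_eq_one.1 h6)

/-- the eigenvalue on `P / C_P(W (n - 2))` is the one on `W 1 / W 2` in the exceptional case -/
theorem eig_exc [Finite P] (h : MC P p n W) [hp : Fact p.Prime] (hne : h.Ksub (n - 2) ≠ W 1)
    {σ : P →* P} (hσ : Function.Surjective σ) {l : ℤ} (hl : Eig W σ 1 l) (y : P) :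
    (y ^ l)⁻¹ * σ y ∈ h.Ksub (n - 2) := by
  have h4 := h.four_le
  have hn : (h.Ksub (n - 2)).Normal := by
    apply Subgroup.Normal.of_commutator_le
    rw [_root_.commutator_def, h.comm_top]
    exact h.W2_le_Ksub _
  have hn1 := h.normal 1
  have hy : y ∈ W 1 ⊔ h.Ksub (n - 2) := by rw [sup_eq_top h hne]; trivial
  rw [Subgroup.mem_sup_of_normal_left] at hy
  obtain ⟨w, hw, c, hc, rfl⟩ := hy
  have h1 := hl w hw
  have h2 : (w ^ l)⁻¹ * σ w ∈ h.Ksub (n - 2) := h.W2_le_Ksub _ h1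
  have h3 := Ksub_map h σ hσ hc
  rw [← QuotientGroup.eq_one_iff] at h2 h3 hc ⊢
  have e1 : ((w * c : P) : P ⧸ h.Ksub (n - 2)) = (w : P ⧸ h.Ksub (n - 2)) := by
    rw [QuotientGroup.mk_mul, hc, mul_one]
  have e2 : ((σ (w * c) : P) : P ⧸ h.Ksub (n - 2)) = (σ w : P ⧸ h.Ksub (n - 2)) := by
    rw [map_mul, QuotientGroup.mk_mul, h3, mul_one]
  rw [QuotientGroup.mk_mul, QuotientGroup.mk_inv, QuotientGroup.mk_zpow, e1, e2]
  rw [QuotientGroup.mk_mul, QuotientGroup.mk_inv, QuotientGroup.mk_zpow] at h2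
  exact h2

theorem eig_chain [Finite P] (h : MC P p n W) [hp : Fact p.Prime] (hp3 : 3 ≤ p) {σ : P →* P}
    (hσ : Function.Surjective σ) {l k : ℤ} (hl : Eig W σ 0 l) (hk : Eig W σ 1 k) (j : ℕ)
    (hj : j + 3 ≤ n) : Eig W σ (j + 1) (k * l ^ j) := by
  induction j with
  | zero => rw [pow_zero, mul_one]; exact hk
  | succ j ih =>
    have h1 := ih (by omega)
    have h2 := eig_comm h hσ (i := j + 1) (by omega) (by omega) h1 (l := l) (by
      intro y
      rw [Ksub_eq h hp3 (by omega) (by omega)]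
      exact hl y (by rw [h.zero]; trivial))
    rw [pow_succ, ← mul_assoc]
    exact h2

theorem one_ne_neg_one [hp : Fact p.Prime] (hp3 : 3 ≤ p) : (1 : ZMod p) ≠ -1 := by
  intro h
  have h1 : ((2 : ℕ) : ZMod p) = 0 := by
    push_cast
    linear_combination h
  rw [ZMod.natCast_eq_zero_iff] at h1
  have := Nat.le_of_dvd (by norm_num) h1
  omega

theorem contraA [Finite P] (h : MC P p n W) [hp : Fact p.Prime] (hp3 : 3 ≤ p) (hn : 5 ≤ n)
    {σ : P →* P} (hσ : Function.Surjective σ) (h1 : Eig W σ (n - 1) (-1))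
    (h2 : Eig W σ (n - 2) 1) (h3 : Eig W σ (n - 3) 1) : False := by
  obtain ⟨l, hl⟩ := eig_exists h hσ (i := 0) (by omega)
  obtain ⟨k, hk⟩ := eig_exists h hσ (i := 1) (by omega)
  have e1 := eig_comm h hσ (i := n - 3) (by omega) (by omega) h3 (l := l) (by
      intro y
      rw [Ksub_eq h hp3 (by omega) (by omega)]
      exact hl y (by rw [h.zero]; trivial))
  rw [one_mul, show n - 3 + 1 = n - 2 by omega] at e1
  have e2 : (l : ZMod p) = 1 := by
    have := eig_unique h (i := n - 2) (by omega) e1 h2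
    rwa [Int.cast_one] at this
  have e3 := eig_chain h hp3 hσ hl hk (n - 3) (by omega)
  rw [show n - 3 + 1 = n - 2 by omega] at e3
  have e4 : (k : ZMod p) = 1 := by
    have := eig_unique h (i := n - 2) (by omega) e3 h2
    rw [Int.cast_mul, Int.cast_pow, e2, one_pow, mul_one, Int.cast_one] at this
    exact this
  by_cases hne : h.Ksub (n - 2) = W 1
  · have e5 := eig_comm h hσ (i := n - 2) (by omega) (by omega) h2 (l := l) (by
      intro y
      rw [hne]
      exact hl y (by rw [h.zero]; trivial))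
    rw [one_mul, show n - 2 + 1 = n - 1 by omega] at e5
    have e6 := eig_unique h (i := n - 1) (by omega) e5 h1
    rw [e2, Int.cast_neg, Int.cast_one] at e6
    exact one_ne_neg_one hp3 e6
  · have e5 := eig_comm h hσ (i := n - 2) (by omega) (by omega) h2 (l := k) (eig_exc h hne hσ hk)
    rw [one_mul, show n - 2 + 1 = n - 1 by omega] at e5
    have e6 := eig_unique h (i := n - 1) (by omega) e5 h1
    rw [e4, Int.cast_neg, Int.cast_one] at e6
    exact one_ne_neg_one hp3 e6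

theorem contraB [Finite P] (h : MC P p n W) [hp : Fact p.Prime] (hp3 : 3 ≤ p) (hn : 5 ≤ n)
    {σ : P →* P} (hσ : Function.Surjective σ) (hne : h.Ksub (n - 2) ≠ W 1)
    (h1 : Eig W σ (n - 1) 1) (h2 : Eig W σ (n - 2) (-1)) (h3 : Eig W σ (n - 3) 1) : False := by
  obtain ⟨l, hl⟩ := eig_exists h hσ (i := 0) (by omega)
  obtain ⟨k, hk⟩ := eig_exists h hσ (i := 1) (by omega)
  have e1 := eig_comm h hσ (i := n - 3) (by omega) (by omega) h3 (l := l) (by
      intro y
      rw [Ksub_eq h hp3 (by omega) (by omega)]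
      exact hl y (by rw [h.zero]; trivial))
  rw [one_mul, show n - 3 + 1 = n - 2 by omega] at e1
  have e2 : (l : ZMod p) = -1 := by
    have := eig_unique h (i := n - 2) (by omega) e1 h2
    rwa [Int.cast_neg, Int.cast_one] at this
  have hev := parity h hp3 hne
  have hodd : Odd (n - 3) := by
    obtain ⟨m, hm⟩ := hev
    exact ⟨m - 2, by omega⟩
  have e3 := eig_chain h hp3 hσ hl hk (n - 3) (by omega)
  rw [show n - 3 + 1 = n - 2 by omega] at e3
  have e4 : (k : ZMod p) = 1 := by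
    have := eig_unique h (i := n - 2) (by omega) e3 h2
    rw [Int.cast_mul, Int.cast_pow, e2, hodd.neg_one_pow, Int.cast_neg, Int.cast_one] at this
    linear_combination -this
  have e5 := eig_comm h hσ (i := n - 2) (by omega) (by omega) h2 (l := k) (eig_exc h hne hσ hk)
  rw [show n - 2 + 1 = n - 1 by omega] at e5
  have e6 := eig_unique h (i := n - 1) (by omega) e5 h1
  rw [Int.cast_mul, e4, Int.cast_neg, Int.cast_one, mul_one] at e6
  exact one_ne_neg_one hp3 e6.symm

end Eig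

end Cfsg.Agent.H797.MaxParity
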