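import Cfsg.Agent.H792.CenterSplit
import Cfsg.Agent.H759.FusFactor
set_option linter.all false

/-!
# The centre of a fusion system is central; a Grün-type lemma (helper797)

* `isCentral_sup`, `isCentral_center` : the centre of a fusion system over a finite `S` is central;
* `center_factor_eq_bot` : if `F` is saturated and its hyperfocal subgroup is `S`, then the factor system of
  `F` modulo its centre has trivial centre.
-/

set_option autoImplicit false

namespace Cfsg.Agent.H797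

open Cfsg Cfsg.FusionSystem

variable {Ω : Type*} [Group Ω] {S : Subgroup Ω} {F : FusionSystem S}

/-- Two homomorphisms on `A ⊔ B` which agree on `A` and on `B` are equal. -/
theorem sup_hom_ext {A B : Subgroup Ω} {f g : (A ⊔ B : Subgroup Ω) →* Ω}
    (hA : ∀ (x : Ω) (_ : x ∈ A) (hx' : x ∈ A ⊔ B), f ⟨x, hx'⟩ = g ⟨x, hx'⟩)
    (hB : ∀ (x : Ω) (_ : x ∈ B) (hx' : x ∈ A ⊔ B), f ⟨x, hx'⟩ = g ⟨x, hx'⟩) : f = g := by
  have h : A ⊔ B ≤ (MonoidHom.eqLocus f g).map (A ⊔ B : Subgroup Ω).subtype := by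
    refine sup_le ?_ ?_
    · intro x hx
      exact ⟨⟨x, (le_sup_left : A ≤ A ⊔ B) hx⟩, hA x hx _, rfl⟩
    · intro x hx
      exact ⟨⟨x, (le_sup_right : B ≤ A ⊔ B) hx⟩, hB x hx _, rfl⟩
  ext y
  obtain ⟨z, hz, hzy⟩ := h y.2
  have h1 : z = y := Subtype.ext hzy
  rw [← h1]
  exact hz

/-- A map of the system fixes the elements of its source lying in a central subgroup. -/
theorem isCentral_apply {Q : Subgroup Ω} (hQ : F.IsCentral Q) {P : Subgroup Ω} {φ : P →* Ω}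
    (hφ : φ ∈ F.Hom P) {x : Ω} (hxQ : x ∈ Q) (hxP : x ∈ P) : φ ⟨x, hxP⟩ = x := by
  obtain ⟨ψ, -, h1, h2⟩ := hQ.2 P φ hφ
  rw [← h1 ⟨x, hxP⟩]
  exact h2 ⟨x, hxQ⟩

theorem isCentral_stronglyClosed {Q : Subgroup Ω} (hQ : F.IsCentral Q) : F.StronglyClosed Q := by
  refine ⟨hQ.1, fun R hR φ hφ x => ?_⟩
  have h1 := isCentral_apply hQ hφ (hR x.2) x.2
  have h2 : φ x = x := h1
  rw [h2]
  exact hR x.2

theorem isCentral_sup {Q R : Subgroup Ω} (hQ : F.IsCentral Q) (hR : F.IsCentral R) :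
    F.IsCentral (Q ⊔ R) := by
  refine ⟨sup_le hQ.1 hR.1, fun P φ hφ => ?_⟩
  obtain ⟨ψ, hψ, h1, h2⟩ := hQ.2 P φ hφ
  obtain ⟨χ, hχ, h3, h4⟩ := hR.2 _ ψ hψ
  have hle : P ⊔ (Q ⊔ R) ≤ (P ⊔ Q) ⊔ R := by rw [sup_assoc]
  refine ⟨χ.comp (Subgroup.inclusion hle), H802.restrict_mem hχ hle, fun x => ?_, fun x => ?_⟩
  · exact (h3 _).trans (h1 x)
  · have h5 : (χ.comp (Subgroup.inclusion hle)).comp
        (Subgroup.inclusion (le_sup_right : Q ⊔ R ≤ P ⊔ (Q ⊔ R))) = (Q ⊔ R).subtype := by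
      refine sup_hom_ext (fun x hx hx' => ?_) (fun x hx hx' => ?_)
      · exact (h3 ⟨x, (le_sup_right : Q ≤ P ⊔ Q) hx⟩).trans (h2 ⟨x, hx⟩)
      · exact h4 ⟨x, hx⟩
    exact DFunLike.congr_fun h5 x

theorem isCentral_bot : F.IsCentral ⊥ := by
  refine ⟨bot_le, fun P φ hφ => ?_⟩
  have hle : P ⊔ ⊥ ≤ P := by simp
  refine ⟨φ.comp (Subgroup.inclusion hle), H802.restrict_mem hφ hle, fun x => rfl, fun x => ?_⟩
  have hx : (x : Ω) = 1 := Subgroup.mem_bot.1 x.2
  have h1 : (Subgroup.inclusion (le_sup_right : ⊥ ≤ P ⊔ ⊥) x : (P ⊔ ⊥ : Subgroup Ω)) = 1 :=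
    Subtype.ext hx
  rw [h1, map_one, hx]

/-- The centre of a fusion system over a finite group is central. -/
theorem isCentral_center [Finite S] : F.IsCentral F.center := by
  have hfin : {Q : Subgroup Ω | F.IsCentral Q}.Finite := by
    have h1 : {Q : Subgroup Ω | F.IsCentral Q} ⊆ {Q : Subgroup Ω | Q ≤ S} := fun Q hQ => hQ.1
    refine Set.Finite.subset ?_ h1
    have h2 : {Q : Subgroup Ω | Q ≤ S} = Set.range (fun H : Subgroup S => H.map S.subtype) := by
      ext Q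
      constructor
      · intro hQ
        exact ⟨Q.subgroupOf S, by
          show (Q.subgroupOf S).map S.subtype = Q
          rw [Subgroup.subgroupOf_map_subtype, inf_eq_left.2 hQ]⟩
      · rintro ⟨H, rfl⟩
        exact Subgroup.map_subtype_le H
    rw [h2]
    exact Set.finite_range _
  obtain ⟨Q, hQ, hmax⟩ := hfin.exists_maximal ⟨⊥, isCentral_bot (F := F)⟩
  have hcore : F.center = Q := by
    apply le_antisymm
    · refine sSup_le (fun R hR => ?_)
      have h1 : F.IsCentral (Q ⊔ R) := isCentral_sup hQ hR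
      exact le_sup_right.trans (hmax h1 le_sup_left)
    · exact le_sSup hQ
  rw [hcore]; exact hQ

/-- A power of an element of `p`-power order which also has order prime to `p` is trivial. -/
theorem eq_one_of_pow_coprime {G : Type*} [Group G] {p : ℕ} (hG : IsPGroup p G)
    {z : G} {m : ℕ} (hm : m.Coprime p) (h : z ^ m = 1) : z = 1 := by
  obtain ⟨k, hk⟩ := hG z
  have h1 : orderOf z ∣ m := orderOf_dvd_of_pow_eq_one h
  have h2 : orderOf z ∣ p ^ k := orderOf_dvd_of_pow_eq_one hk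
  have h3 : orderOf z ∣ 1 := by
    have := Nat.dvd_gcd h1 h2
    rwa [Nat.Coprime.gcd_eq_one (Nat.Coprime.pow_right k hm)] at this
  exact orderOf_eq_one_iff.1 (Nat.dvd_one.1 h3)

/-- In a finite group, for `α` of order prime to `p` (possibly in another group) and any `β`, there is `k` with `β ^ k` of order prime to `p` and
`α ^ k = α`. -/
theorem exists_pow_coprime {A B : Type*} [Group A] [Group B] [Finite B] {p : ℕ} [hp : Fact p.Prime]
    (α : A) (hα : (orderOf α).Coprime p) (β : B) :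
    ∃ k : ℕ, (orderOf (β ^ k)).Coprime p ∧ α ^ k = α := by
  have hβ : orderOf β ≠ 0 := (orderOf_pos β).ne'
  obtain ⟨a, m, hm, hbm⟩ := Nat.exists_eq_pow_mul_and_not_dvd hβ p hp.out.ne_one
  have hcop : (orderOf α).Coprime (p ^ a) := Nat.Coprime.pow_right a hα
  obtain ⟨k, hk1, hk2⟩ := Nat.chineseRemainder hcop 1 0
  refine ⟨k, ?_, ?_⟩
  · have h1 : p ^ a ∣ k := (Nat.modEq_zero_iff_dvd).1 hk2
    obtain ⟨c, hc⟩ := h1
    have h2 : orderOf (β ^ k) ∣ m := by
      apply orderOf_dvd_of_pow_eq_one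
      rw [← pow_mul]
      have h3 : orderOf β ∣ k * m := by
        rw [hbm, hc]
        exact ⟨c, by ring⟩
      exact orderOf_dvd_iff_pow_eq_one.1 h3
    have h4 : m.Coprime p := ((Nat.Prime.coprime_iff_not_dvd hp.out).2 hm).symm
    exact Nat.Coprime.coprime_dvd_left h2 h4
  · have h3 := (pow_eq_pow_iff_modEq (x := α)).2 hk1
    rw [h3, pow_one]

variable {Ω' : Type*} [Group Ω'] {S' : Subgroup Ω'} {θ : S →* Ω'} {E : FusionSystem S'} {p : ℕ}

theorem center_factor_eq_bot [Finite S] [Fact p.Prime] (hS : IsPGroup p S) (hF : F.IsSaturated p)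
    (hperf : F.hyperfocalSubgroup p = S) (hE : F.IsFactorSystem F.center θ E) :
    E.center = ⊥ := by
  have hZ : F.IsCentral F.center := isCentral_center
  have hZsc := isCentral_stronglyClosed hZ
  rw [eq_bot_iff]
  refine sSup_le fun Q' hQ' => ?_
  have hQ'c : E.IsCentral Q' := hQ'
  have hQ'sc := isCentral_stronglyClosed hQ'c
  set W : Subgroup Ω := preimageAlong θ Q' with hWdef
  have hWsc : F.StronglyClosed W := H759.stronglyClosed_preimage hS hF hZsc hE hQ'sc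
  have hWS : W ≤ S := hWsc.1
  have hZW : F.center ≤ W := H759.le_preimageAlong hZsc.1 hE.2.1
  -- maps of `F` over `W` are trivial modulo the centre
  have hmodZ : ∀ {P : Subgroup Ω} {φ : P →* Ω}, φ ∈ F.Hom P → ∀ hWP : W ≤ P, ∀ (w : Ω) (hw : w ∈ W),
      w⁻¹ * φ ⟨w, hWP hw⟩ ∈ F.center := by
    intro P φ hφ hWP w hw
    obtain ⟨φ', hφ', h⟩ := H759.exists_factor_map hZsc hE hφ (P' := Q') hQ'c.1 hWP
    obtain ⟨hwS, hwQ⟩ := H759.mem_preimageAlong.1 hw
    have hyS := (F.le_of_mem hφ).2 ⟨w, hWP hw⟩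
    have h1 := h w (hWP hw) hwS hwQ hyS
    rw [isCentral_apply hQ'c hφ' hwQ hwQ] at h1
    exact (H759.theta_eq_iff hE).1 h1
  -- Claim A
  have hA : ∀ {P : Subgroup Ω} (hPS : P ≤ S) (hWP : W ≤ P) (α : MulAut P), α ∈ F.autGroup P →
      (orderOf α).Coprime p → ∀ (w : Ω) (hw : w ∈ W), ((α ⟨w, hWP hw⟩ : P) : Ω) = w := by
    intro P hPS hWP α hα hcop w hw
    have hα' := (H802.mem_autGroup_iff F hPS α).1 hα
    have hz := hmodZ hα' hWP w hw
    set z : Ω := w⁻¹ * (P.subtype.comp α.toMonoidHom) ⟨w, hWP hw⟩ with hzdef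
    have hzP : z ∈ P := hWP (hZW hz)
    have hαz : α ⟨z, hzP⟩ = ⟨z, hzP⟩ := Subtype.ext (isCentral_apply hZ hα' hz hzP)
    have hαw : α ⟨w, hWP hw⟩ = ⟨w, hWP hw⟩ * ⟨z, hzP⟩ := by
      apply Subtype.ext
      show ((α ⟨w, hWP hw⟩ : P) : Ω) = w * (w⁻¹ * ((α ⟨w, hWP hw⟩ : P) : Ω))
      group
    have hpow : ∀ k : ℕ, (α ^ k) ⟨w, hWP hw⟩ = ⟨w, hWP hw⟩ * ⟨z, hzP⟩ ^ k := by
      intro k
      induction k with
      | zero => simp
      | succ k ih =>
        rw [pow_succ', MulAut.mul_apply, ih, map_mul, map_pow, hαz, hαw, pow_succ', mul_assoc]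
    have h1 := hpow (orderOf α)
    rw [pow_orderOf_eq_one] at h1
    have h2 : (⟨z, hzP⟩ : P) ^ orderOf α = 1 := by
      have h3 : (⟨w, hWP hw⟩ : P) = ⟨w, hWP hw⟩ * ⟨z, hzP⟩ ^ orderOf α := h1
      exact (left_eq_mul.1 h3)
    have h4 : (⟨z, hzP⟩ : P) = 1 := eq_one_of_pow_coprime (hS.to_le hPS) hcop h2
    rw [hαw, h4, mul_one]
  -- Claim B
  have hB : ∀ {P : Subgroup Ω} (hPS : P ≤ S) (α : MulAut P), α ∈ F.autGroup P →
      (orderOf α).Coprime p → ∀ x : P, (x : Ω)⁻¹ * ((α x : P) : Ω) ∈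
        Subgroup.centralizer (W : Set Ω) := by
    intro P hPS α hα hcop x
    have hα' := (H802.mem_autGroup_iff F hPS α).1 hα
    obtain ⟨ψ, hψ, hψ1, hψ2⟩ := hZ.2 P _ hα'
    have hP'S' : imageAlong θ P ≤ S' := by
      rw [← hE.2.2.1]; exact H759.imageAlong_le_range
    have hpre : preimageAlong θ (imageAlong θ P) ≤ P ⊔ F.center := by
      intro y hy
      obtain ⟨hyS, hy'⟩ := H759.mem_preimageAlong.1 hy
      obtain ⟨r, hr, hrP, hry⟩ := H759.mem_imageAlong.1 hy'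
      have h1 := (H759.theta_eq_iff hE).1 hry
      have h2 : y = r * (r⁻¹ * y) := by group
      rw [h2]
      exact Subgroup.mul_mem_sup hrP h1
    obtain ⟨φ', hφ', h⟩ := H759.exists_factor_map hZsc hE hψ hP'S' hpre
    obtain ⟨ψ', hψ', h3, h4⟩ := hQ'c.2 _ φ' hφ'
    have hex := H759.exists_map_of_factor hE hψ'
    set R : Subgroup Ω := preimageAlong θ (imageAlong θ P ⊔ Q') with hRdef
    obtain ⟨χ, hχ, h5⟩ := hex
    have hRS : R ≤ S := H759.preimageAlong_le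
    have hWR : W ≤ R := H759.preimageAlong_mono le_sup_right
    have hPR : P ≤ R := by
      intro y hy
      refine H759.mem_preimageAlong.2 ⟨hPS hy, ?_⟩
      exact (le_sup_left : imageAlong θ P ≤ _) (H759.mem_imageAlong.2 ⟨y, hPS hy, hy, rfl⟩)
    -- values of `χ` on `P`
    have h6 : ∀ y : P, ((α y : P) : Ω)⁻¹ * χ ⟨y, hPR y.2⟩ ∈ F.center := by
      intro y
      have hyS : (y : Ω) ∈ S := hPS y.2
      have hyi : θ ⟨y, hyS⟩ ∈ imageAlong θ P := H759.mem_imageAlong.2 ⟨y, hyS, y.2, rfl⟩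
      have hyi' : θ ⟨y, hyS⟩ ∈ imageAlong θ P ⊔ Q' := (le_sup_left : imageAlong θ P ≤ _) hyi
      have hχS := (F.le_of_mem hχ).2 ⟨y, hPR y.2⟩
      have e1 := h5 y (hPR y.2) hyS hyi' hχS
      have e2 : ψ' ⟨θ ⟨y, hyS⟩, hyi'⟩ = φ' ⟨θ ⟨y, hyS⟩, hyi⟩ := h3 ⟨θ ⟨y, hyS⟩, hyi⟩
      have hψS := (F.le_of_mem hψ).2 ⟨y, (le_sup_left : P ≤ P ⊔ F.center) y.2⟩
      have e3 := h y ((le_sup_left : P ≤ P ⊔ F.center) y.2) hyS hyi hψS
      rw [e2, e3] at e1
      have e4 := (H759.theta_eq_iff hE).1 e1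
      have e5 : ψ ⟨y, (le_sup_left : P ≤ P ⊔ F.center) y.2⟩ = ((α y : P) : Ω) := hψ1 y
      have e6 : (ψ ⟨y, (le_sup_left : P ≤ P ⊔ F.center) y.2⟩)⁻¹ * χ ⟨y, hPR y.2⟩ ∈ F.center := e4
      rw [e5] at e6
      exact e6
    -- `χ` preserves `R`
    have h7 : ∀ y : R, χ y ∈ R := by
      intro y
      obtain ⟨hyS, hy'⟩ := H759.mem_preimageAlong.1 y.2
      have hχS := (F.le_of_mem hχ).2 y
      refine H759.mem_preimageAlong.2 ⟨hχS, ?_⟩
      have e1 := h5 y y.2 hyS hy' hχS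
      have e2 : θ ⟨χ y, hχS⟩ = ψ' ⟨θ ⟨y, hyS⟩, hy'⟩ := e1.symm
      rw [e2]
      refine H759.hom_sup_mem (φ := ψ') (fun u hu hu' => ?_) (fun u hu hu' => ?_) ⟨θ ⟨y, hyS⟩, hy'⟩
      · have e3 : ψ' ⟨u, hu'⟩ = φ' ⟨u, hu⟩ := h3 ⟨u, hu⟩
        rw [e3]
        obtain ⟨v, hvS, hvP, rfl⟩ := H759.mem_imageAlong.1 hu
        have hψS := (F.le_of_mem hψ).2 ⟨v, (le_sup_left : P ≤ P ⊔ F.center) hvP⟩
        have e4 := h v ((le_sup_left : P ≤ P ⊔ F.center) hvP) hvS hu hψS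
        rw [e4]
        have e5 : ψ ⟨v, (le_sup_left : P ≤ P ⊔ F.center) hvP⟩ = ((α ⟨v, hvP⟩ : P) : Ω) :=
          hψ1 ⟨v, hvP⟩
        refine (le_sup_left : imageAlong θ P ≤ _) (H759.mem_imageAlong.2
          ⟨((α ⟨v, hvP⟩ : P) : Ω), hPS (α ⟨v, hvP⟩).2, (α ⟨v, hvP⟩).2, ?_⟩)
        congr 1
        exact Subtype.ext e5.symm
      · have e3 : ψ' ⟨u, hu'⟩ = u := h4 ⟨u, hu⟩
        rw [e3]
        exact (le_sup_right : Q' ≤ _) hu
    have hfinR : Finite R := H802.finite_of_le hRS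
    obtain ⟨β, hβ, hβe⟩ := H802.exists_aut hχ (H802.range_eq_of_mapsTo hχ h7)
    have hβ' := (H802.mem_autGroup_iff F hRS β).1 hβ
    have h8 : ∀ (k : ℕ) (y : P), (((α ^ k) y : P) : Ω)⁻¹ * (((β ^ k) ⟨y, hPR y.2⟩ : R) : Ω) ∈
        F.center := by
      intro k
      induction k with
      | zero => intro y; simp
      | succ k ih =>
        intro y
        have e1 := ih y
        set z : Ω := (((α ^ k) y : P) : Ω)⁻¹ * (((β ^ k) ⟨y, hPR y.2⟩ : R) : Ω) with hz
        have hzR : z ∈ R := hWR (hZW e1)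
        have e2 : (β ^ k) ⟨y, hPR y.2⟩ = ⟨((α ^ k) y : P), hPR ((α ^ k) y).2⟩ * ⟨z, hzR⟩ := by
          apply Subtype.ext
          show (((β ^ k) ⟨y, hPR y.2⟩ : R) : Ω) = (((α ^ k) y : P) : Ω) * z
          rw [hz]; group
        have e3 : β ⟨z, hzR⟩ = ⟨z, hzR⟩ := Subtype.ext (isCentral_apply hZ hβ' e1 hzR)
        rw [pow_succ', pow_succ', MulAut.mul_apply, MulAut.mul_apply, e2, map_mul, e3,
          Subgroup.coe_mul, ← mul_assoc]
        refine F.center.mul_mem ?_ e1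
        have e4 := h6 ((α ^ k) y)
        rw [hβe]
        exact e4
    obtain ⟨k, hk1, hk2⟩ := exists_pow_coprime (p := p) α hcop β
    have hβk : β ^ k ∈ F.autGroup R := (F.autGroup R).pow_mem hβ k
    have h9 := hA hRS hWR (β ^ k) hβk hk1
    rw [Subgroup.mem_centralizer_iff]
    intro w hw
    have hxS : (x : Ω) ∈ S := hPS x.2
    have hxw : (x : Ω) * w * (x : Ω)⁻¹ ∈ W := H759.StronglyClosed.conj_mem hWsc hxS hw
    set g : Ω := (((β ^ k) ⟨x, hPR x.2⟩ : R) : Ω) with hg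
    have e1 := h9 _ hxw
    have e2 : (⟨(x : Ω) * w * (x : Ω)⁻¹, hWR hxw⟩ : R) =
        ⟨x, hPR x.2⟩ * ⟨w, hWR hw⟩ * ⟨x, hPR x.2⟩⁻¹ := rfl
    rw [e2, map_mul, map_mul, map_inv, Subgroup.coe_mul, Subgroup.coe_mul, Subgroup.coe_inv,
      h9 w hw, ← hg] at e1
    -- e1 : g * w * g⁻¹ = x * w * x⁻¹
    have e3 := h8 k x
    rw [hk2, ← hg] at e3
    set z : Ω := ((α x : P) : Ω)⁻¹ * g with hz
    have hzc : z * w = w * z := by
      have := F.center_le_centralizer e3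
      exact (Subgroup.mem_centralizer_iff.1 this w (hWS hw)).symm
    have e4 : ((α x : P) : Ω) = g * z⁻¹ := by rw [hz]; group
    have hzc' : z⁻¹ * w = w * z⁻¹ := by
      calc z⁻¹ * w = z⁻¹ * (w * z) * z⁻¹ := by group
        _ = z⁻¹ * (z * w) * z⁻¹ := by rw [hzc]
        _ = w * z⁻¹ := by group
    rw [e4]
    have e5 : (x : Ω)⁻¹ * g * w = w * ((x : Ω)⁻¹ * g) := by
      calc (x : Ω)⁻¹ * g * w = (x : Ω)⁻¹ * (g * w * g⁻¹) * g := by group
        _ = (x : Ω)⁻¹ * (x * w * (x : Ω)⁻¹) * g := by rw [e1]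
        _ = w * ((x : Ω)⁻¹ * g) := by group
    calc w * ((x : Ω)⁻¹ * (g * z⁻¹)) = w * ((x : Ω)⁻¹ * g) * z⁻¹ := by group
      _ = (x : Ω)⁻¹ * g * w * z⁻¹ := by rw [e5]
      _ = (x : Ω)⁻¹ * g * (w * z⁻¹) := by group
      _ = (x : Ω)⁻¹ * g * (z⁻¹ * w) := by rw [hzc']
      _ = (x : Ω)⁻¹ * (g * z⁻¹) * w := by group
  -- the hyperfocal subgroup centralizes `W`
  have hSW : S ≤ Subgroup.centralizer (W : Set Ω) := by
    conv_lhs => rw [← hperf]
    show Subgroup.closure _ ≤ _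
    rw [Subgroup.closure_le]
    rintro y ⟨P, α, x, hPS, hα, rfl⟩
    have key : ∀ a ∈ pResidual p (F.autGroup P), ∀ x : P,
        (x : Ω)⁻¹ * (((a : MulAut P) x : P) : Ω) ∈ Subgroup.centralizer (W : Set Ω) := by
      intro a ha
      refine Subgroup.closure_induction
        (p := fun (a : F.autGroup P) _ => ∀ x : P,
          (x : Ω)⁻¹ * (((a : MulAut P) x : P) : Ω) ∈ Subgroup.centralizer (W : Set Ω))
        ?_ ?_ ?_ ?_ ha
      · intro b hb x
        have hb' : (orderOf (b : MulAut P)).Coprime p := by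
          rw [Subgroup.orderOf_coe]; exact hb
        exact hB hPS b b.2 hb' x
      · intro x
        simp
      · intro b c _ _ hb hc x
        have e1 := hc x
        have e2 := hb ((c : MulAut P) x)
        have := Subgroup.mul_mem _ e1 e2
        have e3 : (x : Ω)⁻¹ * (((c : MulAut P) x : P) : Ω) *
            ((((c : MulAut P) x : P) : Ω)⁻¹ * (((b : MulAut P) ((c : MulAut P) x) : P) : Ω)) =
            (x : Ω)⁻¹ * ((((b * c : F.autGroup P) : MulAut P) x : P) : Ω) := by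
          rw [Subgroup.coe_mul, MulAut.mul_apply]
          group
        rw [e3] at this
        exact this
      · intro b _ hb x
        have e1 := hb (((b⁻¹ : F.autGroup P) : MulAut P) x)
        have e2 : (b : MulAut P) (((b⁻¹ : F.autGroup P) : MulAut P) x) = x :=
          (b : MulAut P).apply_symm_apply x
        rw [e2] at e1
        have := Subgroup.inv_mem _ e1
        simpa using this
    exact key α hα x
  -- `W` is normal in `F`
  have hWab : ⁅W, W⁆ = ⊥ := by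
    rw [Subgroup.commutator_eq_bot_iff_le_centralizer]
    exact hWS.trans hSW
  have hWn : F.IsNormal W := H759.isNormal_of_abelian hS hF hWsc hWab
  have hWauto := (H792.isFullyAutomized_of_isNormal hF hWn).1
  have hfinW : Finite W := H802.finite_of_le hWS
  have hautW : ∀ α ∈ F.autGroup W, ∀ w : W, ((α w : W) : Ω) = w := by
    intro α hα w
    have h1 : autInducedBy S W = ⊥ := by
      rw [eq_bot_iff]
      intro β hβ
      obtain ⟨g, hg, h⟩ := (H802.mem_autInducedBy_iff S W β).1 hβ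
      rw [Subgroup.mem_bot]
      apply MulEquiv.ext
      intro x
      apply Subtype.ext
      rw [h, ← Subgroup.mem_centralizer_iff.1 (hSW hg) x x.2]
      simp
    obtain ⟨-, T, hT⟩ := hWauto
    have h2 : (orderOf (⟨α, hα⟩ : F.autGroup W)).Coprime p := by
      have h3 : ¬ p ∣ Nat.card (F.autGroup W) := by
        have h4 := T.not_dvd_index
        rw [hT, h1] at h4
        have h5 : ((⊥ : Subgroup (MulAut W)).subgroupOf (F.autGroup W)) = ⊥ := by
          rw [eq_bot_iff]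
          intro x hx
          rw [Subgroup.mem_subgroupOf, Subgroup.mem_bot] at hx
          exact Subgroup.mem_bot.2 (Subtype.ext hx)
        rw [h5, Subgroup.index_bot] at h4
        exact h4
      have h6 := ((Nat.Prime.coprime_iff_not_dvd (Fact.out : p.Prime)).2 h3).symm
      exact Nat.Coprime.coprime_dvd_left (orderOf_dvd_natCard _) h6
    have h7 : (orderOf α).Coprime p := by
      have := Subgroup.orderOf_coe (⟨α, hα⟩ : F.autGroup W)
      rw [← this] at h2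
      exact h2
    exact hA hWS le_rfl α hα h7 w w.2
  have hWc : F.IsCentral W := by
    refine ⟨hWS, fun P φ hφ => ?_⟩
    obtain ⟨ψ, hψ, h1, h2⟩ := hWn.2 P φ hφ
    refine ⟨ψ, hψ, h1, fun w => ?_⟩
    have hle : W ≤ P ⊔ W := le_sup_right
    have hr : (ψ.comp (Subgroup.inclusion hle)).range = W := by
      refine Eq.trans ?_ h2
      ext y
      constructor
      · rintro ⟨x, rfl⟩
        exact ⟨Subgroup.inclusion hle x, x.2, rfl⟩
      · rintro ⟨x, hx, rfl⟩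
        exact ⟨⟨x, hx⟩, rfl⟩
    obtain ⟨α, hα, hαe⟩ := H802.exists_aut (H802.restrict_mem hψ hle) hr
    have h3 := hautW α hα w
    rw [hαe] at h3
    exact h3
  intro y hy
  have hyS : y ∈ S' := hQ'c.1 hy
  obtain ⟨x, hx, hxW, hxy⟩ := H759.exists_preimage_of_mem hE hQ'c.1 hy
  have hxc : x ∈ F.center := (le_sSup (a := W) hWc) hxW
  rw [Subgroup.mem_bot, ← hxy]
  exact (hE.2.1 ⟨x, hx⟩).2 hxc

end Cfsg.Agent.H797
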